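import Mathlib
import Groth.Agent.Lib.Helper29.QCohQcqs
import Groth.Agent.Lib.Helper29.QCohPullback
import Groth.Prelude.Def_OmegaPn

/-! # Basic facts on the projections of the infinitesimal neighbourhoods of the diagonal -/

set_option autoImplicit false
universe u
open CategoryTheory CategoryTheory.Limits AlgebraicGeometry TopologicalSpace Opposite

namespace Groth.Agent.Lib.Helper2.PrinPartB

theorem quasiCompact_of_homeomorph {Z X : Scheme.{u}} (h : Z ⟶ X) (e : Z ≃ₜ X)
    (he : ∀ z, e z = h z) : QuasiCompact h := by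
  constructor
  intro U hU hUc
  have : (h ⁻¹' U) = e ⁻¹' U := by
    ext z
    simp only [Set.mem_preimage, he]
  rw [this]
  exact e.isCompact_preimage.2 hUc

theorem quasiSeparated_of_homeomorph {Z X : Scheme.{u}} (h : Z ⟶ X) (e : Z ≃ₜ X)
    (he : ∀ z, e z = h z) : QuasiSeparated h := by
  rw [HasAffineProperty.iff_of_iSup_eq_top (P := @QuasiSeparated) (fun U : X.affineOpens => U)
    (iSup_affineOpens_eq_top X)]
  intro U
  haveI : IsAffine (U.1 : Scheme.{u}) := U.2
  haveI : QuasiSeparatedSpace (U.1 : Scheme.{u}) := inferInstance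
  let e' : (h ⁻¹ᵁ U.1 : Scheme.{u}) ≃ₜ (U.1 : Scheme.{u}) :=
    e.subtype (fun z => by
      change h z ∈ U.1 ↔ e z ∈ U.1
      rw [he])
  exact (quasiSeparatedSpace_congr e').2 inferInstance

variable {X S : Scheme.{u}} (f : X ⟶ S) (n : ℕ)

theorem pr1_toNbhd_apply (x : X) : (PrinPart.pr1 f n) ((PrinPart.toNbhd f n) x) = x := by
  rw [← Scheme.Hom.comp_apply, PrinPart.toNbhd_pr1]
  rfl

theorem toNbhd_pr1_apply (y : PrinPart.nbhd f n) :
    (PrinPart.toNbhd f n) ((PrinPart.pr1 f n) y) = y := by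
  obtain ⟨x, rfl⟩ := PrinPart.toInfNbhd_surjective (PrinPart.diagCl f) n y
  exact congrArg _ (pr1_toNbhd_apply f n x)

/-- The first projection is a homeomorphism. -/
noncomputable def pr1Homeo : PrinPart.nbhd f n ≃ₜ X where
  toFun := (PrinPart.pr1 f n)
  invFun := (PrinPart.toNbhd f n)
  left_inv := toNbhd_pr1_apply f n
  right_inv := pr1_toNbhd_apply f n
  continuous_toFun := (PrinPart.pr1 f n).continuous
  continuous_invFun := (PrinPart.toNbhd f n).continuous

instance : QuasiCompact (PrinPart.pr1 f n) :=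
  quasiCompact_of_homeomorph _ (pr1Homeo f n) (fun _ => rfl)

instance : QuasiSeparated (PrinPart.pr1 f n) :=
  quasiSeparated_of_homeomorph _ (pr1Homeo f n) (fun _ => rfl)

theorem isQuasicoherent_PMod (F : X.Modules) [F.IsQuasicoherent] :
    (PrinPart.PMod f n F).IsQuasicoherent :=
  Groth.Agent.Lib.Helper29.QCoh.isQuasicoherent_pushforward_of_qcqs (PrinPart.pr1 f n) _

end Groth.Agent.Lib.Helper2.PrinPartB
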