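import Mathlib
import Groth.Agent.Lib.Helper2.PrinPart.Basic
import Groth.Agent.Lib.Helper29.PQ1

/-! # Finiteness of the first projection of the infinitesimal neighbourhoods of the diagonal -/

set_option autoImplicit false
universe u
open CategoryTheory CategoryTheory.Limits AlgebraicGeometry TopologicalSpace Opposite

namespace Groth.Agent.Lib.Helper2.PrinPartB

theorem appLE_surjective_of_eq {A B : Scheme.{u}} (ι : A ⟶ B) [IsClosedImmersion ι]
    (T : B.affineOpens) (V : A.Opens) (hV : V = ι ⁻¹ᵁ T.1) :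
    Function.Surjective (ι.appLE T.1 V hV.le) := by
  subst hV
  rw [Scheme.Hom.appLE_eq_app]
  exact ι.app_surjective T.1 T.2

theorem appLE_of_eq {A B : Scheme.{u}} {g g' : A ⟶ B} (h : g = g') (T : B.Opens) (V : A.Opens)
    (e : V ≤ g ⁻¹ᵁ T) (e' : V ≤ g' ⁻¹ᵁ T) : g.appLE T V e = g'.appLE T V e' := by
  subst h
  rfl

theorem appLE_eq_zero_of_app_eq_zero {A B : Scheme.{u}} (g : A ⟶ B) (T : B.Opens) (V : A.Opens)
    (e : V ≤ g ⁻¹ᵁ T) (x : Γ(B, T)) (hx : (g.app T).hom x = 0) : (g.appLE T V e).hom x = 0 := by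
  have h7 : g.appLE T V e = g.app T ≫ A.presheaf.map (homOfLE e).op := rfl
  rw [h7, CommRingCat.hom_comp, RingHom.comp_apply, hx, map_zero]

section Abstract

variable {Y D P : Scheme.{u}} (s : Y ⟶ D) (ι : D ⟶ P) (p : D ⟶ Y) (i : Y ⟶ P)
  (hs : s ≫ ι = i) (hp : s ≫ p = 𝟙 Y) (hsurj : Function.Surjective s)

include hp in
theorem retr_apply (y : Y) : p (s y) = y := by
  rw [← Scheme.Hom.comp_apply, hp]
  rfl

include hs hp hsurj in
theorem preimage_retr (T : P.Opens) : p ⁻¹ᵁ (i ⁻¹ᵁ T) = ι ⁻¹ᵁ T := by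
  ext z
  obtain ⟨y, rfl⟩ := hsurj z
  change i (p (s y)) ∈ T ↔ ι (s y) ∈ T
  rw [retr_apply s p hp, ← Scheme.Hom.comp_apply, hs]

include hs hp hsurj in
theorem isAffineOpen_preimage_retr [IsAffineHom ι] (T : P.affineOpens) :
    IsAffineOpen (p ⁻¹ᵁ (i ⁻¹ᵁ T.1)) := by
  rw [preimage_retr s ι p i hs hp hsurj]
  exact T.2.preimage ι

include hp in
theorem le_preimage_retr (U : Y.Opens) : U ≤ s ⁻¹ᵁ (p ⁻¹ᵁ U) := fun y hy => by
  change p (s y) ∈ U
  rw [retr_apply s p hp]; exact hy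

include hs hp hsurj in
/-- Sections killed by the augmentation are nilpotent of order `n + 1`. -/
theorem pow_eq_zero_of_aug [IsClosedImmersion ι] (n : ℕ) (T : P.affineOpens)
    (hker : ∀ k' : Γ(P, T.1), (i.app T.1).hom k' = 0 → (ι.app T.1).hom (k' ^ (n + 1)) = 0)
    (k : Γ(D, p ⁻¹ᵁ (i ⁻¹ᵁ T.1)))
    (hk : (s.appLE (p ⁻¹ᵁ (i ⁻¹ᵁ T.1)) (i ⁻¹ᵁ T.1) (le_preimage_retr s p hp _)).hom k = 0) :
    k ^ (n + 1) = 0 := by
  have hV := preimage_retr s ι p i hs hp hsurj T.1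
  obtain ⟨k', rfl⟩ := appLE_surjective_of_eq ι T _ hV k
  have h2 : ι.appLE T.1 (p ⁻¹ᵁ (i ⁻¹ᵁ T.1)) hV.le ≫
      s.appLE (p ⁻¹ᵁ (i ⁻¹ᵁ T.1)) (i ⁻¹ᵁ T.1) (le_preimage_retr s p hp _) = i.app T.1 := by
    rw [Scheme.Hom.appLE_comp_appLE, appLE_of_eq hs T.1 (i ⁻¹ᵁ T.1) _ le_rfl,
      Scheme.Hom.appLE_eq_app]
  have h1 : (i.app T.1).hom k' = 0 := by
    rw [← h2, CommRingCat.hom_comp, RingHom.comp_apply]
    exact hk
  rw [← map_pow]
  exact appLE_eq_zero_of_app_eq_zero ι T.1 _ hV.le _ (hker k' h1)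

include hs hp hsurj in
theorem isIntegral_app_retr [IsClosedImmersion ι] (n : ℕ) (T : P.affineOpens)
    (hker : ∀ k' : Γ(P, T.1), (i.app T.1).hom k' = 0 → (ι.app T.1).hom (k' ^ (n + 1)) = 0) :
    (p.app (i ⁻¹ᵁ T.1)).hom.IsIntegral := by
  intro c
  set a := (s.appLE (p ⁻¹ᵁ (i ⁻¹ᵁ T.1)) (i ⁻¹ᵁ T.1) (le_preimage_retr s p hp _)).hom c with ha
  have h0 : p.app (i ⁻¹ᵁ T.1) ≫
      s.appLE (p ⁻¹ᵁ (i ⁻¹ᵁ T.1)) (i ⁻¹ᵁ T.1) (le_preimage_retr s p hp _) = 𝟙 _ := by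
    rw [Scheme.Hom.app_eq_appLE, Scheme.Hom.appLE_comp_appLE,
      appLE_of_eq hp (i ⁻¹ᵁ T.1) (i ⁻¹ᵁ T.1) _ le_rfl]
    have h7 : (𝟙 Y : Y ⟶ Y).appLE (i ⁻¹ᵁ T.1) (i ⁻¹ᵁ T.1) le_rfl =
        (𝟙 Y : Y ⟶ Y).app (i ⁻¹ᵁ T.1) ≫ Y.presheaf.map (homOfLE le_rfl).op := rfl
    rw [h7, Scheme.Hom.id_app]
    exact (Category.id_comp _).trans (Y.presheaf.map_id _)
  have h1 : (s.appLE (p ⁻¹ᵁ (i ⁻¹ᵁ T.1)) (i ⁻¹ᵁ T.1) (le_preimage_retr s p hp _)).hom
      ((p.app (i ⁻¹ᵁ T.1)).hom a) = a := by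
    have := congrArg (fun φ => φ.hom a) h0
    simpa using this
  have hk : (c - (p.app (i ⁻¹ᵁ T.1)).hom a) ^ (n + 1) = 0 := by
    apply pow_eq_zero_of_aug s ι p i hs hp hsurj n T hker
    rw [map_sub, h1, ← ha, sub_self]
  have h2 : (p.app (i ⁻¹ᵁ T.1)).hom.IsIntegralElem (c - (p.app (i ⁻¹ᵁ T.1)).hom a) :=
    ⟨Polynomial.X ^ (n + 1), Polynomial.monic_X_pow _, by
      rw [Polynomial.eval₂_X_pow, hk]⟩
  have h3 := RingHom.IsIntegralElem.add _ h2
    ((p.app (i ⁻¹ᵁ T.1)).hom.isIntegralElem_map (x := a))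
  rwa [sub_add_cancel] at h3

end Abstract

section Diag

variable {X S : Scheme.{u}} (f : X ⟶ S) (n : ℕ)

instance : IsClosedImmersion (PrinPart.infNbhdι (PrinPart.diagCl f) n) :=
  inferInstanceAs (IsClosedImmersion ((PrinPart.diagCl f).ker ^ (n + 1)).subschemeι)

instance [LocallyOfFiniteType f] : LocallyOfFiniteType (PrinPart.pr1 f n) := by
  unfold PrinPart.pr1 PrinPart.nbhdι
  infer_instance

theorem hker_diag (T : ((pullback.diagonal f).coborderRange : Scheme.{u}).affineOpens)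
    (k' : Γ(((pullback.diagonal f).coborderRange : Scheme.{u}), T.1))
    (h : ((PrinPart.diagCl f).app T.1).hom k' = 0) :
    ((PrinPart.infNbhdι (PrinPart.diagCl f) n).app T.1).hom (k' ^ (n + 1)) = 0 := by
  have h4 : k' ∈ (PrinPart.diagCl f).ker.ideal T := by
    rw [Scheme.Hom.ker_apply, RingHom.mem_ker]
    exact h
  have h5 : k' ^ (n + 1) ∈ ((PrinPart.diagCl f).ker ^ (n + 1)).ideal T := by
    rw [Scheme.IdealSheafData.ideal_pow]
    exact Ideal.pow_mem_pow h4 (n + 1)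
  rw [← Scheme.IdealSheafData.ker_subschemeι_app, RingHom.mem_ker] at h5
  exact h5

/-- The affine opens of `X` over which `pr1` is understood. -/
noncomputable def diagOpen (T : ((pullback.diagonal f).coborderRange : Scheme.{u}).affineOpens) :
    X.Opens := (PrinPart.diagCl f) ⁻¹ᵁ T.1

theorem isAffineOpen_diagOpen (T) : IsAffineOpen (diagOpen f T) :=
  T.2.preimage (PrinPart.diagCl f)

theorem isOpenCover_diagOpen : TopologicalSpace.IsOpenCover (diagOpen f) := by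
  rw [TopologicalSpace.IsOpenCover, eq_top_iff]
  rintro x -
  obtain ⟨T, hT, hxT, -⟩ := exists_isAffineOpen_mem_and_subset (x := (PrinPart.diagCl f) x)
    (U := ⊤) trivial
  exact Opens.mem_iSup.mpr ⟨⟨T, hT⟩, hxT⟩

theorem isAffineOpen_pr1_preimage (T) : IsAffineOpen (PrinPart.pr1 f n ⁻¹ᵁ diagOpen f T) :=
  isAffineOpen_preimage_retr (PrinPart.toNbhd f n) (PrinPart.infNbhdι (PrinPart.diagCl f) n)
    (PrinPart.pr1 f n) (PrinPart.diagCl f) (PrinPart.toInfNbhd_ι _ n) (PrinPart.toNbhd_pr1 f n)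
    (PrinPart.toInfNbhd_surjective _ n) T

theorem isIntegral_pr1_app (T) : ((PrinPart.pr1 f n).app (diagOpen f T)).hom.IsIntegral :=
  isIntegral_app_retr (PrinPart.toNbhd f n) (PrinPart.infNbhdι (PrinPart.diagCl f) n)
    (PrinPart.pr1 f n) (PrinPart.diagCl f) (PrinPart.toInfNbhd_ι _ n) (PrinPart.toNbhd_pr1 f n)
    (PrinPart.toInfNbhd_surjective _ n) n T (hker_diag f n T)

theorem finite_pr1_app [LocallyOfFiniteType f] (T) :
    ((PrinPart.pr1 f n).app (diagOpen f T)).hom.Finite := by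
  refine RingHom.IsIntegral.to_finite (isIntegral_pr1_app f n T) ?_
  have h1 := HasRingHomProperty.appLE (P := @LocallyOfFiniteType) (PrinPart.pr1 f n) inferInstance
    ⟨diagOpen f T, isAffineOpen_diagOpen f T⟩ ⟨_, isAffineOpen_pr1_preimage f n T⟩ le_rfl
  rwa [Scheme.Hom.appLE_eq_app] at h1

open Groth.Agent.Lib.Helper29.QCoh in
theorem isFiniteType_PMod [LocallyOfFiniteType f] (F : X.Modules) [F.IsQuasicoherent]
    [F.IsFiniteType] : (PrinPart.PMod f n F).IsFiniteType := by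
  haveI : ((Scheme.Modules.pushforward (PrinPart.pr1 f n)).obj
      ((Scheme.Modules.pullback (PrinPart.pr2 f n)).obj F)).IsQuasicoherent :=
    isQuasicoherent_PMod f n F
  exact isFiniteType_pushforward_of_cover (PrinPart.pr1 f n) _ (diagOpen f)
    (isOpenCover_diagOpen f) (isAffineOpen_diagOpen f)
    (fun T => Or.inl ⟨isAffineOpen_pr1_preimage f n T, finite_pr1_app f n T⟩)

end Diag

end Groth.Agent.Lib.Helper2.PrinPartB
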