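import Mathlib
import Groth.Agent.Lib.Helper2.PrinPart.Finite

/-! # Affine boxes around the diagonal and generation of the sections of `O_{Δ^(n)}` -/

set_option autoImplicit false
universe u
open CategoryTheory CategoryTheory.Limits AlgebraicGeometry TopologicalSpace Opposite
open TensorProduct

namespace Groth.Agent.Lib.Helper2.PrinPartB

/-- In a pushout square of commutative rings every element of the pushout is a finite sum of
products. -/
theorem exists_sum_of_isPushout {R A B P : CommRingCat.{u}} {a : R ⟶ A} {b : R ⟶ B}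
    {a' : A ⟶ P} {b' : B ⟶ P} (h : IsPushout a b a' b') (p : P) :
    ∃ S : Finset (A × B), p = ∑ q ∈ S, a'.hom q.1 * b'.hom q.2 := by
  letI := a.hom.toAlgebra
  letI := b.hom.toAlgebra
  have h0 := CommRingCat.isPushout_tensorProduct R A B
  let e := h0.isoIsPushout _ _ h
  have hl : ∀ x : A, e.hom.hom (x ⊗ₜ[R] (1 : B)) = a'.hom x := fun x =>
    congrArg (fun φ => φ.hom x) (h0.inl_isoIsPushout_hom _ _ h)
  have hr : ∀ y : B, e.hom.hom ((1 : A) ⊗ₜ[R] y) = b'.hom y := fun y =>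
    congrArg (fun φ => φ.hom y) (h0.inr_isoIsPushout_hom _ _ h)
  obtain ⟨S, hS⟩ := TensorProduct.exists_finset (e.inv.hom p)
  refine ⟨S, ?_⟩
  have h1 : p = e.hom.hom (e.inv.hom p) := by
    have := congrArg (fun φ => φ.hom p) e.inv_hom_id
    exact this.symm
  rw [h1, hS, map_sum]
  refine Finset.sum_congr rfl fun q _ => ?_
  have h2 : q.1 ⊗ₜ[R] q.2 = (q.1 ⊗ₜ[R] (1 : B)) * ((1 : A) ⊗ₜ[R] q.2) := by
    rw [Algebra.TensorProduct.tmul_mul_tmul, mul_one, one_mul]
  rw [h2, map_mul, hl, hr]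

theorem comap_pow_of_bijective {R R' : Type*} [CommRing R] [CommRing R'] (φ : R →+* R')
    (hφ : Function.Bijective φ) (K : Ideal R') (m : ℕ) :
    Ideal.comap φ (K ^ m) = (Ideal.comap φ K) ^ m := by
  let e : R ≃+* R' := RingEquiv.ofBijective φ hφ
  have h1 : ∀ I : Ideal R', Ideal.comap φ I = Ideal.map (e.symm : R' →+* R) I := fun I =>
    (Ideal.map_symm e).symm
  rw [h1, h1, Ideal.map_pow]

theorem ker_appLE_of_eq {A B : Scheme.{u}} (g : A ⟶ B) (T : B.Opens) (V : A.Opens)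
    (hV : V = g ⁻¹ᵁ T) :
    RingHom.ker (g.appLE T V hV.le).hom = RingHom.ker (g.app T).hom := by
  subst hV
  rw [Scheme.Hom.appLE_eq_app]

section Box

variable {X S : Scheme.{u}} (f : X ⟶ S) {U : X.Opens} {V : S.Opens}
  (hU : IsAffineOpen U) (hV : IsAffineOpen V) (hUV : U ≤ f ⁻¹ᵁ V)

include hU hV hUV in
theorem isPushout_box :
    IsPushout (f.appLE V U hUV) (f.appLE V U hUV)
      ((pullback.fst f f).appLE U (OmegaSh.diagNbhd f U) inf_le_left)
      ((pullback.snd f f).appLE U (OmegaSh.diagNbhd f U) inf_le_right) := by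
  have h := isIso_pushoutSection_of_isAffineOpen (IsPullback.of_hasPullback f f) hUV hUV
    (UY := OmegaSh.diagNbhd f U) rfl hV hU hU
  exact (isIso_pushoutSection_iff (IsPullback.of_hasPullback f f) hUV hUV rfl).1 h

include hU hV hUV in
theorem isAffineOpen_box : IsAffineOpen (OmegaSh.diagNbhd f U) := by
  haveI : IsAffine (V : Scheme.{u}) := hV
  haveI : IsAffine (U : Scheme.{u}) := hU
  exact .of_isIso (Scheme.Hom.isPullback_resLE (IsPullback.of_hasPullback f f) hUV hUV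
    (UY := OmegaSh.diagNbhd f U) rfl).isoPullback.hom

include hU hV hUV in
theorem exists_sum_box (w : Γ(pullback f f, OmegaSh.diagNbhd f U)) :
    ∃ Q : Finset (Γ(X, U) × Γ(X, U)), w = ∑ q ∈ Q,
      ((pullback.fst f f).appLE U (OmegaSh.diagNbhd f U) inf_le_left).hom q.1 *
        ((pullback.snd f f).appLE U (OmegaSh.diagNbhd f U) inf_le_right).hom q.2 :=
  exists_sum_of_isPushout (isPushout_box f hU hV hUV) w

theorem diagonal_preimage_box (U : X.Opens) :
    pullback.diagonal f ⁻¹ᵁ OmegaSh.diagNbhd f U = U :=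
  le_antisymm (OmegaSh.diagonal_preimage_le f le_rfl) (OmegaSh.le_preimage_diagNbhd f U)

include hU hV hUV in
theorem box_le_coborderRange :
    OmegaSh.diagNbhd f U ≤ (pullback.diagonal f).coborderRange := by
  have e : U ≤ pullback.diagonal f ⁻¹ᵁ OmegaSh.diagNbhd f U := OmegaSh.le_preimage_diagNbhd f U
  haveI : IsAffine (U : Scheme.{u}) := hU
  haveI : IsAffine (OmegaSh.diagNbhd f U : Scheme.{u}) := isAffineOpen_box f hU hV hUV
  have hid : (pullback.fst f f).appLE U (OmegaSh.diagNbhd f U) inf_le_left ≫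
      (pullback.diagonal f).appLE (OmegaSh.diagNbhd f U) U e = 𝟙 _ := by
    rw [Scheme.Hom.appLE_comp_appLE]
    exact OmegaSh.id_appLE_eq_id (pullback.diagonal_fst f) _
  have hsurj0 : Function.Surjective
      ((pullback.diagonal f).appLE (OmegaSh.diagNbhd f U) U e).hom := fun b =>
    ⟨((pullback.fst f f).appLE U (OmegaSh.diagNbhd f U) inf_le_left).hom b,
      congrArg (fun φ => φ.hom b) hid⟩
  have hsurj : Function.Surjective
      (((pullback.diagonal f).resLE (OmegaSh.diagNbhd f U) U e).appTop) := by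
    rw [Scheme.Hom.appTop, Scheme.Hom.resLE_app_top]
    intro b
    obtain ⟨a, ha⟩ := hsurj0 ((U.topIso.hom).hom b)
    refine ⟨((OmegaSh.diagNbhd f U).topIso.inv).hom a, ?_⟩
    simp only [CommRingCat.hom_comp, RingHom.comp_apply]
    have h1 : ((OmegaSh.diagNbhd f U).topIso.hom).hom
        (((OmegaSh.diagNbhd f U).topIso.inv).hom a) = a :=
      congrArg (fun φ => φ.hom a) (OmegaSh.diagNbhd f U).topIso.inv_hom_id
    rw [h1, ha]
    exact congrArg (fun φ => φ.hom b) U.topIso.hom_inv_id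
  haveI : IsClosedImmersion ((pullback.diagonal f).resLE (OmegaSh.diagNbhd f U) U e) :=
    IsClosedImmersion.of_surjective_of_isAffine _ hsurj
  have hcl : IsClosed (Set.range ((pullback.diagonal f).resLE (OmegaSh.diagNbhd f U) U e)) :=
    ((pullback.diagonal f).resLE (OmegaSh.diagNbhd f U) U e).isClosedEmbedding.isClosed_range
  have hpre : (OmegaSh.diagNbhd f U).ι ⁻¹' (Set.range (pullback.diagonal f)) =
      Set.range ((pullback.diagonal f).resLE (OmegaSh.diagNbhd f U) U e) := by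
    ext y
    constructor
    · rintro ⟨x, hx⟩
      have hxU : x ∈ U := by
        rw [← diagonal_preimage_box f U]
        change pullback.diagonal f x ∈ OmegaSh.diagNbhd f U
        rw [hx]
        exact y.2
      refine ⟨⟨x, hxU⟩, Subtype.ext ?_⟩
      rw [Scheme.Hom.coe_resLE_apply]
      exact hx
    · rintro ⟨x, rfl⟩
      refine ⟨x.1, ?_⟩
      change _ = (((pullback.diagonal f).resLE (OmegaSh.diagNbhd f U) U e) x).1
      rw [Scheme.Hom.coe_resLE_apply]
  have h1 := (OmegaSh.diagNbhd f U).ι.isOpenEmbedding.coborder_preimage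
    (Set.range (pullback.diagonal f))
  rw [hpre, hcl.coborder_eq] at h1
  intro x hx
  have h2 : (⟨x, hx⟩ : (OmegaSh.diagNbhd f U)) ∈
      (OmegaSh.diagNbhd f U).ι ⁻¹' coborder (Set.range (pullback.diagonal f)) := by
    rw [← h1]; exact Set.mem_univ _
  exact h2

/-- The affine open of the coborder open corresponding to the box. -/
noncomputable abbrev boxW : ((pullback.diagonal f).coborderRange : Scheme.{u}).Opens :=
  (pullback.diagonal f).coborderRange.ι ⁻¹ᵁ OmegaSh.diagNbhd f U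

include hU hV hUV in
theorem isAffineOpen_boxW : IsAffineOpen (boxW f (U := U)) := by
  rw [← (pullback.diagonal f).coborderRange.ι.isAffineOpen_iff_of_isOpenImmersion]
  have h1 : (pullback.diagonal f).coborderRange.ι ''ᵁ (boxW f (U := U)) =
      OmegaSh.diagNbhd f U := by
    rw [boxW, Scheme.Hom.image_preimage_eq_opensRange_inf, Scheme.Opens.opensRange_ι]
    exact inf_eq_right.mpr (box_le_coborderRange f hU hV hUV)
  rw [h1]
  exact isAffineOpen_box f hU hV hUV

theorem pr1_preimage_eq (n : ℕ) (U : X.Opens) :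
    PrinPart.pr1 f n ⁻¹ᵁ U = PrinPart.infNbhdι (PrinPart.diagCl f) n ⁻¹ᵁ (boxW f (U := U)) := by
  ext z
  change PrinPart.pr1 f n z ∈ U ↔
    (pullback.fst f f) (PrinPart.nbhdι f n z) ∈ U ∧ (pullback.snd f f) (PrinPart.nbhdι f n z) ∈ U
  have h1 : (pullback.fst f f) (PrinPart.nbhdι f n z) = PrinPart.pr1 f n z := rfl
  have h2 : (pullback.snd f f) (PrinPart.nbhdι f n z) = PrinPart.pr2 f n z := rfl
  rw [h1, h2, ← PrinPart.pr1_apply]
  exact ⟨fun h => ⟨h, h⟩, fun h => h.1⟩

include hU hV hUV in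
/-- Sections of `O_{Δ^(n)}` over `pr1⁻¹ U` (for an affine box `U`) are sums of products
`pr1♯(b) · pr2♯(b')`. -/
theorem exists_sum_pr1_pr2 (n : ℕ) (c : Γ(PrinPart.nbhd f n, PrinPart.pr1 f n ⁻¹ᵁ U)) :
    ∃ Q : Finset (Γ(X, U) × Γ(X, U)), c = ∑ q ∈ Q,
      ((PrinPart.pr1 f n).app U).hom q.1 *
        ((PrinPart.pr2 f n).appLE U (PrinPart.pr1 f n ⁻¹ᵁ U)
          (PrinPart.preimage_pr1 f n U).le).hom q.2 := by
  have hΩ := pr1_preimage_eq f n U
  obtain ⟨w, hw⟩ := appLE_surjective_of_eq (PrinPart.infNbhdι (PrinPart.diagCl f) n)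
    ⟨boxW f (U := U), isAffineOpen_boxW f hU hV hUV⟩ _ hΩ c
  have hw' : ((PrinPart.infNbhdι (PrinPart.diagCl f) n).appLE (boxW f (U := U))
      (PrinPart.pr1 f n ⁻¹ᵁ U) hΩ.le).hom w = c := hw
  rw [← hw']
  clear hw hw'
  haveI : IsIso ((pullback.diagonal f).coborderRange.ι.app (OmegaSh.diagNbhd f U)) :=
    Scheme.Hom.isIso_app _ _ (by
      rw [Scheme.Opens.opensRange_ι]; exact box_le_coborderRange f hU hV hUV)
  obtain ⟨w₀, rfl⟩ : ∃ w₀, ((pullback.diagonal f).coborderRange.ι.app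
      (OmegaSh.diagNbhd f U)).hom w₀ = w :=
    (ConcreteCategory.bijective_of_isIso
      ((pullback.diagonal f).coborderRange.ι.app (OmegaSh.diagNbhd f U))).2 w
  obtain ⟨Q, rfl⟩ := exists_sum_box f hU hV hUV w₀
  refine ⟨Q, ?_⟩
  rw [map_sum, map_sum]
  refine Finset.sum_congr rfl fun q _ => ?_
  rw [map_mul, map_mul]
  have key : ∀ (pr : pullback f f ⟶ X) (e0 : OmegaSh.diagNbhd f U ≤ pr ⁻¹ᵁ U)
      (g : PrinPart.nbhd f n ⟶ X) (hg : PrinPart.nbhdι f n ≫ pr = g)
      (e1 : PrinPart.pr1 f n ⁻¹ᵁ U ≤ g ⁻¹ᵁ U) (b : Γ(X, U)),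
      ((PrinPart.infNbhdι (PrinPart.diagCl f) n).appLE (boxW f (U := U))
          (PrinPart.pr1 f n ⁻¹ᵁ U) hΩ.le).hom
        (((pullback.diagonal f).coborderRange.ι.app (OmegaSh.diagNbhd f U)).hom
          ((pr.appLE U (OmegaSh.diagNbhd f U) e0).hom b)) =
      (g.appLE U (PrinPart.pr1 f n ⁻¹ᵁ U) e1).hom b := by
    intro pr e0 g hg e1 b
    subst hg
    rw [Scheme.Hom.app_eq_appLE]
    have h3 : pr.appLE U (OmegaSh.diagNbhd f U) e0 ≫
        (pullback.diagonal f).coborderRange.ι.appLE (OmegaSh.diagNbhd f U) (boxW f (U := U))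
          le_rfl ≫
        (PrinPart.infNbhdι (PrinPart.diagCl f) n).appLE (boxW f (U := U))
          (PrinPart.pr1 f n ⁻¹ᵁ U) hΩ.le =
        (PrinPart.nbhdι f n ≫ pr).appLE U (PrinPart.pr1 f n ⁻¹ᵁ U) e1 := by
      rw [Scheme.Hom.appLE_comp_appLE, Scheme.Hom.appLE_comp_appLE]
      rfl
    exact congrArg (fun φ => φ.hom b) h3
  rw [key (pullback.fst f f) inf_le_left (PrinPart.pr1 f n) rfl le_rfl q.1,
    key (pullback.snd f f) inf_le_right (PrinPart.pr2 f n) rfl
      (PrinPart.preimage_pr1 f n U).le q.2, Scheme.Hom.appLE_eq_app]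

include hU hV hUV in
/-- The kernel of `Γ(X ×_S X, box) → Γ(Δ^(n), pr1⁻¹ U)` is the `(n+1)`-st power of the kernel of
the diagonal. -/
theorem ker_nbhdι_appLE_box (n : ℕ)
    (e : PrinPart.pr1 f n ⁻¹ᵁ U ≤ PrinPart.nbhdι f n ⁻¹ᵁ OmegaSh.diagNbhd f U) :
    RingHom.ker ((PrinPart.nbhdι f n).appLE (OmegaSh.diagNbhd f U)
        (PrinPart.pr1 f n ⁻¹ᵁ U) e).hom =
      (RingHom.ker ((pullback.diagonal f).appLE (OmegaSh.diagNbhd f U) U
        (OmegaSh.le_preimage_diagNbhd f U)).hom) ^ (n + 1) := by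
  have hΩ := pr1_preimage_eq f n U
  haveI : IsIso ((pullback.diagonal f).coborderRange.ι.app (OmegaSh.diagNbhd f U)) :=
    Scheme.Hom.isIso_app _ _ (by
      rw [Scheme.Opens.opensRange_ι]; exact box_le_coborderRange f hU hV hUV)
  have hj : Function.Bijective
      ((pullback.diagonal f).coborderRange.ι.app (OmegaSh.diagNbhd f U)).hom :=
    ConcreteCategory.bijective_of_isIso
      ((pullback.diagonal f).coborderRange.ι.app (OmegaSh.diagNbhd f U))
  have hU' : U = PrinPart.diagCl f ⁻¹ᵁ (boxW f (U := U)) := by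
    have h0 : PrinPart.diagCl f ⁻¹ᵁ (boxW f (U := U)) =
        (PrinPart.diagCl f ≫ (pullback.diagonal f).coborderRange.ι) ⁻¹ᵁ
          OmegaSh.diagNbhd f U := rfl
    rw [h0, Scheme.Hom.liftCoborder_ι, diagonal_preimage_box]
  -- factorisations
  have h1 : (PrinPart.nbhdι f n).appLE (OmegaSh.diagNbhd f U) (PrinPart.pr1 f n ⁻¹ᵁ U) e =
      (pullback.diagonal f).coborderRange.ι.app (OmegaSh.diagNbhd f U) ≫
        (PrinPart.infNbhdι (PrinPart.diagCl f) n).appLE (boxW f (U := U))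
          (PrinPart.pr1 f n ⁻¹ᵁ U) hΩ.le := by
    rw [Scheme.Hom.app_eq_appLE, Scheme.Hom.appLE_comp_appLE]
    rfl
  have h2 : (pullback.diagonal f).appLE (OmegaSh.diagNbhd f U) U
        (OmegaSh.le_preimage_diagNbhd f U) =
      (pullback.diagonal f).coborderRange.ι.app (OmegaSh.diagNbhd f U) ≫
        (PrinPart.diagCl f).appLE (boxW f (U := U)) U hU'.le := by
    rw [Scheme.Hom.app_eq_appLE, Scheme.Hom.appLE_comp_appLE]
    exact appLE_of_eq (Scheme.Hom.liftCoborder_ι _).symm _ _ _ _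
  -- kernels on `W`
  have h3 : RingHom.ker ((PrinPart.infNbhdι (PrinPart.diagCl f) n).appLE (boxW f (U := U))
        (PrinPart.pr1 f n ⁻¹ᵁ U) hΩ.le).hom =
      (RingHom.ker ((PrinPart.diagCl f).appLE (boxW f (U := U)) U hU'.le).hom) ^ (n + 1) := by
    rw [ker_appLE_of_eq _ _ _ hΩ, ker_appLE_of_eq _ _ _ hU']
    have h4 := Scheme.IdealSheafData.ker_subschemeι_app ((PrinPart.diagCl f).ker ^ (n + 1))
      ⟨boxW f (U := U), isAffineOpen_boxW f hU hV hUV⟩
    rw [Scheme.IdealSheafData.ideal_pow] at h4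
    have h5 := Scheme.Hom.ker_apply (PrinPart.diagCl f)
      ⟨boxW f (U := U), isAffineOpen_boxW f hU hV hUV⟩
    change _ = (RingHom.ker ((PrinPart.diagCl f).app (boxW f (U := U))).hom) ^ (n + 1)
    rw [← h5]
    exact h4
  rw [h1, h2, CommRingCat.hom_comp, CommRingCat.hom_comp, ← RingHom.comap_ker,
    ← RingHom.comap_ker, h3]
  exact comap_pow_of_bijective _ hj _ _

end Box

end Groth.Agent.Lib.Helper2.PrinPartB
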