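import Mathlib
import Groth.Agent.Lib.Helper2.PrinPart.Basic
import Groth.Agent.Lib.Helper2.BCPaste

/-! # Transition maps between sheaves of principal parts -/

set_option autoImplicit false
universe u
open CategoryTheory CategoryTheory.Limits AlgebraicGeometry TopologicalSpace Opposite

namespace Groth.Agent.Lib.Helper2.PrinPartB

section General

variable {Z Y X : Scheme.{u}}

/-- Pulling a section back along a composite. -/
theorem pullSect_comp (t : Z ⟶ Y) (g : Y ⟶ X) (F : X.Modules) (U : X.Opens) (s : Γ(F, U)) :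
    OmegaSh.pullSect (t ≫ g) F U s =
      ((Scheme.Modules.pullbackComp t g).hom.app F).app ((t ≫ g) ⁻¹ᵁ U)
        (OmegaSh.pullSect t ((Scheme.Modules.pullback g).obj F) (g ⁻¹ᵁ U)
          (OmegaSh.pullSect g F U s)) := by
  have h := Groth.Agent.Lib.Helper2.BCPaste.unit_rel
    (Scheme.Modules.pullbackPushforwardAdjunction t)
    (Scheme.Modules.pullbackPushforwardAdjunction g)
    (Scheme.Modules.pullbackPushforwardAdjunction (t ≫ g))
    (Scheme.Modules.pullbackComp t g) (Scheme.Modules.pushforwardComp t g)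
    (Scheme.Modules.conjugateEquiv_pullbackComp_inv t g) F
  have h2 := congrArg (fun φ => (Scheme.Modules.Hom.app φ U) s) h
  exact h2

/-- Pulling back along equal morphisms. -/
theorem pullSect_congr {g g' : Z ⟶ X} (h : g = g') (F : X.Modules) (U : X.Opens) (s : Γ(F, U))
    (e : g' ⁻¹ᵁ U ≤ g ⁻¹ᵁ U) :
    ((Scheme.Modules.pullbackCongr h).hom.app F).app (g' ⁻¹ᵁ U)
        (((Scheme.Modules.pullback g).obj F).presheaf.map (homOfLE e).op
          (OmegaSh.pullSect g F U s)) =
      OmegaSh.pullSect g' F U s := by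
  subst h
  have : homOfLE e = 𝟙 _ := Subsingleton.elim _ _
  rw [this, op_id, CategoryTheory.Functor.map_id]
  simp [Scheme.Modules.pullbackCongr]

theorem app_res' {M N : X.Modules} (φ : M ⟶ N) {U V : X.Opens} (h : V ≤ U) (m : Γ(M, U)) :
    φ.app V (M.presheaf.map (homOfLE h).op m) = N.presheaf.map (homOfLE h).op (φ.app U m) := by
  have := φ.mapPresheaf.naturality (homOfLE h).op
  exact congrArg (fun k => k.hom m) this

/-- Abstract transition map for "principal parts" along `t`. -/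
theorem exists_trans (t : Z ⟶ Y) (g1 g2 : Y ⟶ X) (g1' g2' : Z ⟶ X)
    (h1 : t ≫ g1 = g1') (h2 : t ≫ g2 = g2')
    (e : ∀ U : X.Opens, g1 ⁻¹ᵁ U ≤ g2 ⁻¹ᵁ U) (e' : ∀ U : X.Opens, g1' ⁻¹ᵁ U ≤ g2' ⁻¹ᵁ U)
    (F : X.Modules) :
    ∃ u' : (Scheme.Modules.pushforward g1).obj ((Scheme.Modules.pullback g2).obj F) ⟶
        (Scheme.Modules.pushforward g1').obj ((Scheme.Modules.pullback g2').obj F),
      ∀ (U : X.Opens) (s : Γ(F, U)),
        u'.app U (((Scheme.Modules.pullback g2).obj F).presheaf.map (homOfLE (e U)).op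
            (OmegaSh.pullSect g2 F U s)) =
          ((Scheme.Modules.pullback g2').obj F).presheaf.map (homOfLE (e' U)).op
            (OmegaSh.pullSect g2' F U s) := by
  subst h1 h2
  refine ⟨(Scheme.Modules.pushforward g1).map
      ((Scheme.Modules.pullbackPushforwardAdjunction t).unit.app
          ((Scheme.Modules.pullback g2).obj F) ≫
        (Scheme.Modules.pushforward t).map ((Scheme.Modules.pullbackComp t g2).hom.app F)) ≫
      (Scheme.Modules.pushforwardComp t g1).hom.app _, fun U s => ?_⟩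
  change ((Scheme.Modules.pullbackComp t g2).hom.app F).app (t ⁻¹ᵁ (g1 ⁻¹ᵁ U))
    (OmegaSh.pullSect t ((Scheme.Modules.pullback g2).obj F) (g1 ⁻¹ᵁ U)
      (((Scheme.Modules.pullback g2).obj F).presheaf.map (homOfLE (e U)).op
        (OmegaSh.pullSect g2 F U s))) = _
  rw [OmegaSh.pullSect_map, pullSect_comp]
  exact app_res' ((Scheme.Modules.pullbackComp t g2).hom.app F) _ _

end General

variable {X S : Scheme.{u}} (f : X ⟶ S)

/-- The transition morphism between infinitesimal neighbourhoods of the diagonal. -/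
noncomputable def nbhdMap {n m : ℕ} (h : n ≤ m) : PrinPart.nbhd f n ⟶ PrinPart.nbhd f m :=
  PrinPart.infNbhdMap (PrinPart.diagCl f) h

theorem nbhdMap_ι {n m : ℕ} (h : n ≤ m) :
    nbhdMap f h ≫ PrinPart.nbhdι f m = PrinPart.nbhdι f n := by
  simp only [nbhdMap, PrinPart.nbhdι, PrinPart.infNbhdMap_ι_assoc]

theorem nbhdMap_pr1 {n m : ℕ} (h : n ≤ m) :
    nbhdMap f h ≫ PrinPart.pr1 f m = PrinPart.pr1 f n := by
  simp only [PrinPart.pr1, ← Category.assoc, nbhdMap_ι]

theorem nbhdMap_pr2 {n m : ℕ} (h : n ≤ m) :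
    nbhdMap f h ≫ PrinPart.pr2 f m = PrinPart.pr2 f n := by
  simp only [PrinPart.pr2, ← Category.assoc, nbhdMap_ι]

/-- The transition map `P^m(F) ⟶ P^n(F)` for `n ≤ m`, compatible with `d^m`, `d^n`. -/
theorem exists_PMod_trans {n m : ℕ} (h : n ≤ m) (F : X.Modules) :
    ∃ u' : PrinPart.PMod f m F ⟶ PrinPart.PMod f n F,
      ∀ (U : X.Opens) (s : Γ(F, U)),
        u'.app U (PrinPart.dP f m F U s) = PrinPart.dP f n F U s :=
  exists_trans (nbhdMap f h) (PrinPart.pr1 f m) (PrinPart.pr2 f m) (PrinPart.pr1 f n)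
    (PrinPart.pr2 f n) (nbhdMap_pr1 f h) (nbhdMap_pr2 f h)
    (fun U => (PrinPart.preimage_pr1 f m U).le) (fun U => (PrinPart.preimage_pr1 f n U).le) F

theorem isDiffOpLE_of_le (F G : X.Modules) {n m : ℕ} (h : n ≤ m)
    (D : F.presheaf ⟶ G.presheaf) (hD : PrinPart.IsDiffOpLE f F G n D) :
    PrinPart.IsDiffOpLE f F G m D := by
  obtain ⟨v, hv⟩ := hD
  obtain ⟨u', hu'⟩ := exists_PMod_trans f h F
  refine ⟨u' ≫ v, fun U t => ?_⟩
  rw [hv, ← hu']
  rfl

end Groth.Agent.Lib.Helper2.PrinPartB
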