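import Mathlib
import Groth.Agent.Lib.Helper2.PrinPart.Box
import Groth.Agent.Lib.Helper2.PrinPart.Trans
import Groth.Agent.Lib.Helper29.PullSect

/-! # Global sections of principal parts on an affine scheme -/

set_option autoImplicit false
universe u
open CategoryTheory CategoryTheory.Limits AlgebraicGeometry TopologicalSpace Opposite
open TensorProduct

namespace Groth.Agent.Lib.Helper2.PrinPartB

section Affine

variable (A B : Type u) [CommRing A] [CommRing B] [Algebra A B]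

/-- the morphism `Spec B ⟶ Spec A` -/
noncomputable abbrev specF : Spec (CommRingCat.of B) ⟶ Spec (CommRingCat.of A) :=
  Spec.map (CommRingCat.ofHom (algebraMap A B))

theorem top_le_preimage_top :
    (⊤ : (Spec (CommRingCat.of B)).Opens) ≤ specF A B ⁻¹ᵁ (⊤ : (Spec (CommRingCat.of A)).Opens) :=
  fun _ _ => trivial

theorem specF_appLE_top :
    (specF A B).appLE ⊤ ⊤ (top_le_preimage_top A B) ≫ (Scheme.ΓSpecIso (CommRingCat.of B)).hom =
      (Scheme.ΓSpecIso (CommRingCat.of A)).hom ≫ CommRingCat.ofHom (algebraMap A B) := by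
  rw [← Scheme.ΓSpecIso_naturality]
  congr 1

/-- the pushout square presenting the sections over the box as `B ⊗[A] B`. -/
theorem isPushout_spec_box :
    IsPushout (CommRingCat.ofHom (algebraMap A B)) (CommRingCat.ofHom (algebraMap A B))
      ((Scheme.ΓSpecIso (CommRingCat.of B)).inv ≫
        (pullback.fst (specF A B) (specF A B)).appLE ⊤ (OmegaSh.diagNbhd (specF A B) ⊤) inf_le_left)
      ((Scheme.ΓSpecIso (CommRingCat.of B)).inv ≫
        (pullback.snd (specF A B) (specF A B)).appLE ⊤ (OmegaSh.diagNbhd (specF A B) ⊤)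
          inf_le_right) := by
  have h := isPushout_box (specF A B) (isAffineOpen_top _) (isAffineOpen_top _)
    (top_le_preimage_top A B)
  refine h.of_iso (Scheme.ΓSpecIso (CommRingCat.of A)) (Scheme.ΓSpecIso (CommRingCat.of B))
    (Scheme.ΓSpecIso (CommRingCat.of B)) (Iso.refl _) ?_ ?_ ?_ ?_
  · exact specF_appLE_top A B
  · exact specF_appLE_top A B
  · simp
  · simp

/-- `B ⊗[A] B ≅ Γ(X ×_S X, box)`. -/
noncomputable def epsIso : CommRingCat.of (B ⊗[A] B) ≅
    Γ(pullback (specF A B) (specF A B), OmegaSh.diagNbhd (specF A B) ⊤) :=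
  (CommRingCat.isPushout_tensorProduct A B B).isoIsPushout _ _ (isPushout_spec_box A B)

theorem epsIso_left (b : B) : (epsIso A B).hom.hom (b ⊗ₜ[A] (1 : B)) =
    ((pullback.fst (specF A B) (specF A B)).appLE ⊤ (OmegaSh.diagNbhd (specF A B) ⊤)
      inf_le_left).hom ((Scheme.ΓSpecIso (CommRingCat.of B)).inv.hom b) :=
  congrArg (fun φ => φ.hom b)
    ((CommRingCat.isPushout_tensorProduct A B B).inl_isoIsPushout_hom _ _ (isPushout_spec_box A B))

theorem epsIso_right (b : B) : (epsIso A B).hom.hom ((1 : B) ⊗ₜ[A] b) =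
    ((pullback.snd (specF A B) (specF A B)).appLE ⊤ (OmegaSh.diagNbhd (specF A B) ⊤)
      inf_le_right).hom ((Scheme.ΓSpecIso (CommRingCat.of B)).inv.hom b) :=
  congrArg (fun φ => φ.hom b)
    ((CommRingCat.isPushout_tensorProduct A B B).inr_isoIsPushout_hom _ _ (isPushout_spec_box A B))

theorem epsIso_tmul (b b' : B) : (epsIso A B).hom.hom (b ⊗ₜ[A] b') =
    ((pullback.fst (specF A B) (specF A B)).appLE ⊤ (OmegaSh.diagNbhd (specF A B) ⊤)
      inf_le_left).hom ((Scheme.ΓSpecIso (CommRingCat.of B)).inv.hom b) *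
    ((pullback.snd (specF A B) (specF A B)).appLE ⊤ (OmegaSh.diagNbhd (specF A B) ⊤)
      inf_le_right).hom ((Scheme.ΓSpecIso (CommRingCat.of B)).inv.hom b') := by
  have h2 : b ⊗ₜ[A] b' = (b ⊗ₜ[A] (1 : B)) * ((1 : B) ⊗ₜ[A] b') := by
    rw [Algebra.TensorProduct.tmul_mul_tmul, mul_one, one_mul]
  rw [h2, map_mul, epsIso_left, epsIso_right]

theorem epsIso_bijective : Function.Bijective (epsIso A B).hom.hom :=
  ConcreteCategory.bijective_of_isIso (epsIso A B).hom

/-- `ε ≫ Δ♯ = β ∘ mult`. -/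
theorem epsIso_diag (w : B ⊗[A] B) :
    ((pullback.diagonal (specF A B)).appLE (OmegaSh.diagNbhd (specF A B) ⊤) ⊤
        (OmegaSh.le_preimage_diagNbhd (specF A B) ⊤)).hom ((epsIso A B).hom.hom w) =
      (Scheme.ΓSpecIso (CommRingCat.of B)).inv.hom (Algebra.TensorProduct.lmul' A w) := by
  induction w using TensorProduct.induction_on with
  | zero => simp
  | add x y hx hy => rw [map_add, map_add, hx, hy, map_add, map_add]
  | tmul b b' =>
    rw [epsIso_tmul, map_mul, Algebra.TensorProduct.lmul'_apply_tmul, map_mul]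
    have h1 : (pullback.fst (specF A B) (specF A B)).appLE ⊤ (OmegaSh.diagNbhd (specF A B) ⊤)
          inf_le_left ≫
        (pullback.diagonal (specF A B)).appLE (OmegaSh.diagNbhd (specF A B) ⊤) ⊤
          (OmegaSh.le_preimage_diagNbhd (specF A B) ⊤) = 𝟙 _ := by
      rw [Scheme.Hom.appLE_comp_appLE]
      exact OmegaSh.id_appLE_eq_id (pullback.diagonal_fst _) _
    have h2 : (pullback.snd (specF A B) (specF A B)).appLE ⊤ (OmegaSh.diagNbhd (specF A B) ⊤)
          inf_le_right ≫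
        (pullback.diagonal (specF A B)).appLE (OmegaSh.diagNbhd (specF A B) ⊤) ⊤
          (OmegaSh.le_preimage_diagNbhd (specF A B) ⊤) = 𝟙 _ := by
      rw [Scheme.Hom.appLE_comp_appLE]
      exact OmegaSh.id_appLE_eq_id (pullback.diagonal_snd _) _
    have e1 := congrArg (fun φ => φ.hom ((Scheme.ΓSpecIso (CommRingCat.of B)).inv.hom b)) h1
    have e2 := congrArg (fun φ => φ.hom ((Scheme.ΓSpecIso (CommRingCat.of B)).inv.hom b')) h2
    exact congrArg₂ (· * ·) e1 e2

theorem ker_epsIso_diag :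
    RingHom.ker (((epsIso A B).hom ≫
      (pullback.diagonal (specF A B)).appLE (OmegaSh.diagNbhd (specF A B) ⊤) ⊤
        (OmegaSh.le_preimage_diagNbhd (specF A B) ⊤)).hom) = KaehlerDifferential.ideal A B := by
  ext w
  rw [RingHom.mem_ker, KaehlerDifferential.ideal, RingHom.mem_ker]
  change ((pullback.diagonal (specF A B)).appLE (OmegaSh.diagNbhd (specF A B) ⊤) ⊤
        (OmegaSh.le_preimage_diagNbhd (specF A B) ⊤)).hom ((epsIso A B).hom.hom w) = 0 ↔ _
  rw [epsIso_diag]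
  have hinj : Function.Injective (Scheme.ΓSpecIso (CommRingCat.of B)).inv.hom :=
    (ConcreteCategory.bijective_of_isIso (Scheme.ΓSpecIso (CommRingCat.of B)).inv).1
  constructor
  · intro h
    apply hinj
    rw [map_zero]; exact h
  · intro h
    have h' : (Algebra.TensorProduct.lmul' A : B ⊗[A] B →ₐ[A] B) w = 0 := h
    rw [h', map_zero]

variable (n : ℕ)

theorem pr1_top_le : PrinPart.pr1 (specF A B) n ⁻¹ᵁ ⊤ ≤
    PrinPart.nbhdι (specF A B) n ⁻¹ᵁ OmegaSh.diagNbhd (specF A B) ⊤ :=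
  fun _ _ => ⟨trivial, trivial⟩

/-- `Θ : B ⊗[A] B ⟶ Γ(Δ^(n), pr1⁻¹ ⊤)`. -/
noncomputable def thetaHom : CommRingCat.of (B ⊗[A] B) ⟶
    Γ(PrinPart.nbhd (specF A B) n, PrinPart.pr1 (specF A B) n ⁻¹ᵁ ⊤) :=
  (epsIso A B).hom ≫ (PrinPart.nbhdι (specF A B) n).appLE (OmegaSh.diagNbhd (specF A B) ⊤)
    (PrinPart.pr1 (specF A B) n ⁻¹ᵁ ⊤) (pr1_top_le A B n)

theorem thetaHom_tmul (b b' : B) : (thetaHom A B n).hom (b ⊗ₜ[A] b') =
    ((PrinPart.pr1 (specF A B) n).app ⊤).hom ((Scheme.ΓSpecIso (CommRingCat.of B)).inv.hom b) *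
    ((PrinPart.pr2 (specF A B) n).appLE ⊤ (PrinPart.pr1 (specF A B) n ⁻¹ᵁ ⊤)
      (PrinPart.preimage_pr1 (specF A B) n ⊤).le).hom
        ((Scheme.ΓSpecIso (CommRingCat.of B)).inv.hom b') := by
  change ((PrinPart.nbhdι (specF A B) n).appLE (OmegaSh.diagNbhd (specF A B) ⊤)
    (PrinPart.pr1 (specF A B) n ⁻¹ᵁ ⊤) (pr1_top_le A B n)).hom ((epsIso A B).hom.hom _) = _
  rw [epsIso_tmul, map_mul]
  have h1 : (pullback.fst (specF A B) (specF A B)).appLE ⊤ (OmegaSh.diagNbhd (specF A B) ⊤)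
        inf_le_left ≫
      (PrinPart.nbhdι (specF A B) n).appLE (OmegaSh.diagNbhd (specF A B) ⊤)
        (PrinPart.pr1 (specF A B) n ⁻¹ᵁ ⊤) (pr1_top_le A B n) =
      (PrinPart.pr1 (specF A B) n).app ⊤ := by
    rw [Scheme.Hom.appLE_comp_appLE, Scheme.Hom.app_eq_appLE]
    rfl
  have h2 : (pullback.snd (specF A B) (specF A B)).appLE ⊤ (OmegaSh.diagNbhd (specF A B) ⊤)
        inf_le_right ≫
      (PrinPart.nbhdι (specF A B) n).appLE (OmegaSh.diagNbhd (specF A B) ⊤)
        (PrinPart.pr1 (specF A B) n ⁻¹ᵁ ⊤) (pr1_top_le A B n) =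
      (PrinPart.pr2 (specF A B) n).appLE ⊤ (PrinPart.pr1 (specF A B) n ⁻¹ᵁ ⊤)
        (PrinPart.preimage_pr1 (specF A B) n ⊤).le := by
    rw [Scheme.Hom.appLE_comp_appLE]
    rfl
  have e1 := congrArg (fun φ => φ.hom ((Scheme.ΓSpecIso (CommRingCat.of B)).inv.hom b)) h1
  have e2 := congrArg (fun φ => φ.hom ((Scheme.ΓSpecIso (CommRingCat.of B)).inv.hom b')) h2
  exact congrArg₂ (· * ·) e1 e2

theorem thetaHom_surjective : Function.Surjective (thetaHom A B n).hom := by
  intro c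
  obtain ⟨Q, rfl⟩ := exists_sum_pr1_pr2 (specF A B) (isAffineOpen_top _) (isAffineOpen_top _)
    (top_le_preimage_top A B) n c
  have hsurj : Function.Surjective (Scheme.ΓSpecIso (CommRingCat.of B)).inv.hom :=
    (ConcreteCategory.bijective_of_isIso (Scheme.ΓSpecIso (CommRingCat.of B)).inv).2
  choose σ hσ using hsurj
  refine ⟨∑ q ∈ Q, σ q.1 ⊗ₜ[A] σ q.2, ?_⟩
  rw [map_sum]
  refine Finset.sum_congr rfl fun q _ => ?_
  rw [thetaHom_tmul, hσ, hσ]

theorem ker_thetaHom :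
    RingHom.ker (thetaHom A B n).hom = KaehlerDifferential.ideal A B ^ (n + 1) := by
  rw [thetaHom, CommRingCat.hom_comp, ← RingHom.comap_ker,
    ker_nbhdι_appLE_box (specF A B) (isAffineOpen_top _) (isAffineOpen_top _)
      (top_le_preimage_top A B) n (pr1_top_le A B n),
    comap_pow_of_bijective _ (epsIso_bijective A B), RingHom.comap_ker, ← ker_epsIso_diag]
  rfl

end Affine

section SecE

open Groth.Agent.Lib.Helper29.QCoh

variable {X S : Scheme.{u}} (f : X ⟶ S) (n : ℕ) (U : X.Opens)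

/-- The identification `Γ(P^n, U) ≃ Γ(Δ^(n), pr1⁻¹ U)`. -/
noncomputable def secE : Γ(PrinPart.P f n, U) →+ Γ(PrinPart.nbhd f n, PrinPart.pr1 f n ⁻¹ᵁ U) :=
  ((pullbackUnitIso (PrinPart.pr2 f n)).hom.app (PrinPart.pr1 f n ⁻¹ᵁ U)).hom

theorem secE_apply (m : Γ(PrinPart.P f n, U)) : secE f n U m =
    (pullbackUnitIso (PrinPart.pr2 f n)).hom.app (PrinPart.pr1 f n ⁻¹ᵁ U)
      (show Γ((Scheme.Modules.pullback (PrinPart.pr2 f n)).obj (unitM X),
        PrinPart.pr1 f n ⁻¹ᵁ U) from m) := rfl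

theorem secE_bijective : Function.Bijective (secE f n U) := by
  haveI : IsIso ((pullbackUnitIso (PrinPart.pr2 f n)).hom.app (PrinPart.pr1 f n ⁻¹ᵁ U)) :=
    Scheme.Modules.Hom.isIso_iff_isIso_app.1 inferInstance _
  exact ConcreteCategory.bijective_of_isIso
    ((pullbackUnitIso (PrinPart.pr2 f n)).hom.app (PrinPart.pr1 f n ⁻¹ᵁ U))

theorem secE_smul (b : Γ(X, U)) (m : Γ(PrinPart.P f n, U)) :
    secE f n U (b • m) = ((PrinPart.pr1 f n).app U).hom b * secE f n U m := by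
  rw [secE_apply, secE_apply]
  exact Scheme.Modules.Hom.app_smul (pullbackUnitIso (PrinPart.pr2 f n)).hom
    (((PrinPart.pr1 f n).app U).hom b)
    (show Γ((Scheme.Modules.pullback (PrinPart.pr2 f n)).obj (unitM X),
        PrinPart.pr1 f n ⁻¹ᵁ U) from m)

theorem secE_dn (b' : Γ(X, U)) : secE f n U (PrinPart.dn f n U b') =
    ((PrinPart.pr2 f n).appLE U (PrinPart.pr1 f n ⁻¹ᵁ U)
      (PrinPart.preimage_pr1 f n U).le).hom b' := by
  rw [secE_apply]
  change (pullbackUnitIso (PrinPart.pr2 f n)).hom.app (PrinPart.pr1 f n ⁻¹ᵁ U)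
    (((Scheme.Modules.pullback (PrinPart.pr2 f n)).obj (unitM X)).presheaf.map
      (homOfLE (PrinPart.preimage_pr1 f n U).le).op
      (pullSect (PrinPart.pr2 f n) (unitM X) U (toUnit b'))) = _
  rw [app_res', pullbackUnitIso_hom_pullSect]
  rfl

end SecE

end Groth.Agent.Lib.Helper2.PrinPartB
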