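import Mathlib
import Groth.Agent.Lib.Helper2.PrinPart.Box

/-! # Sections of `O_{Δ^(n)}` over `pr1⁻¹ U` for an affine open `U` over an affine open `V` -/

set_option autoImplicit false
universe u
open CategoryTheory CategoryTheory.Limits AlgebraicGeometry TopologicalSpace Opposite
open TensorProduct

namespace Groth.Agent.Lib.Helper2.PrinPartB

section AffineU

variable {X S : Scheme.{u}} (f : X ⟶ S) {U : X.Opens} {V : S.Opens}
  (hU : IsAffineOpen U) (hV : IsAffineOpen V) (hUV : U ≤ f ⁻¹ᵁ V)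
  [Algebra Γ(S, V) Γ(X, U)] (halg : algebraMap Γ(S, V) Γ(X, U) = (f.appLE V U hUV).hom)

include hU hV halg in
theorem isPushout_box_alg :
    IsPushout (CommRingCat.ofHom (algebraMap Γ(S, V) Γ(X, U)))
      (CommRingCat.ofHom (algebraMap Γ(S, V) Γ(X, U)))
      ((pullback.fst f f).appLE U (OmegaSh.diagNbhd f U) inf_le_left)
      ((pullback.snd f f).appLE U (OmegaSh.diagNbhd f U) inf_le_right) := by
  rw [halg]
  exact isPushout_box f hU hV hUV

/-- `Γ(X,U) ⊗[Γ(S,V)] Γ(X,U) ≅ Γ(X ×_S X, box)`. -/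
noncomputable def epsIsoU : CommRingCat.of (Γ(X, U) ⊗[Γ(S, V)] Γ(X, U)) ≅
    Γ(pullback f f, OmegaSh.diagNbhd f U) :=
  (CommRingCat.isPushout_tensorProduct Γ(S, V) Γ(X, U) Γ(X, U)).isoIsPushout _ _
    (isPushout_box_alg f hU hV hUV halg)

theorem epsIsoU_left (b : Γ(X, U)) :
    (epsIsoU f hU hV hUV halg).hom.hom (b ⊗ₜ[Γ(S, V)] (1 : Γ(X, U))) =
      ((pullback.fst f f).appLE U (OmegaSh.diagNbhd f U) inf_le_left).hom b :=
  congrArg (fun φ => φ.hom b)
    ((CommRingCat.isPushout_tensorProduct Γ(S, V) Γ(X, U) Γ(X, U)).inl_isoIsPushout_hom _ _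
      (isPushout_box_alg f hU hV hUV halg))

theorem epsIsoU_right (b : Γ(X, U)) :
    (epsIsoU f hU hV hUV halg).hom.hom ((1 : Γ(X, U)) ⊗ₜ[Γ(S, V)] b) =
      ((pullback.snd f f).appLE U (OmegaSh.diagNbhd f U) inf_le_right).hom b :=
  congrArg (fun φ => φ.hom b)
    ((CommRingCat.isPushout_tensorProduct Γ(S, V) Γ(X, U) Γ(X, U)).inr_isoIsPushout_hom _ _
      (isPushout_box_alg f hU hV hUV halg))

theorem epsIsoU_tmul (b b' : Γ(X, U)) :
    (epsIsoU f hU hV hUV halg).hom.hom (b ⊗ₜ[Γ(S, V)] b') =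
      ((pullback.fst f f).appLE U (OmegaSh.diagNbhd f U) inf_le_left).hom b *
      ((pullback.snd f f).appLE U (OmegaSh.diagNbhd f U) inf_le_right).hom b' := by
  have h2 : b ⊗ₜ[Γ(S, V)] b' = (b ⊗ₜ[Γ(S, V)] (1 : Γ(X, U))) * ((1 : Γ(X, U)) ⊗ₜ[Γ(S, V)] b') := by
    rw [Algebra.TensorProduct.tmul_mul_tmul, mul_one, one_mul]
  rw [h2, map_mul, epsIsoU_left, epsIsoU_right]

theorem epsIsoU_bijective : Function.Bijective (epsIsoU f hU hV hUV halg).hom.hom :=
  ConcreteCategory.bijective_of_isIso (epsIsoU f hU hV hUV halg).hom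

theorem epsIsoU_diag (w : Γ(X, U) ⊗[Γ(S, V)] Γ(X, U)) :
    ((pullback.diagonal f).appLE (OmegaSh.diagNbhd f U) U
        (OmegaSh.le_preimage_diagNbhd f U)).hom ((epsIsoU f hU hV hUV halg).hom.hom w) =
      Algebra.TensorProduct.lmul' Γ(S, V) w := by
  induction w using TensorProduct.induction_on with
  | zero => simp
  | add x y hx hy => rw [map_add, map_add, hx, hy, map_add]
  | tmul b b' =>
    rw [epsIsoU_tmul, map_mul, Algebra.TensorProduct.lmul'_apply_tmul]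
    have h1 : (pullback.fst f f).appLE U (OmegaSh.diagNbhd f U) inf_le_left ≫
        (pullback.diagonal f).appLE (OmegaSh.diagNbhd f U) U
          (OmegaSh.le_preimage_diagNbhd f U) = 𝟙 _ := by
      rw [Scheme.Hom.appLE_comp_appLE]
      exact OmegaSh.id_appLE_eq_id (pullback.diagonal_fst _) _
    have h2 : (pullback.snd f f).appLE U (OmegaSh.diagNbhd f U) inf_le_right ≫
        (pullback.diagonal f).appLE (OmegaSh.diagNbhd f U) U
          (OmegaSh.le_preimage_diagNbhd f U) = 𝟙 _ := by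
      rw [Scheme.Hom.appLE_comp_appLE]
      exact OmegaSh.id_appLE_eq_id (pullback.diagonal_snd _) _
    have e1 := congrArg (fun φ => φ.hom b) h1
    have e2 := congrArg (fun φ => φ.hom b') h2
    exact congrArg₂ (· * ·) e1 e2

theorem ker_epsIsoU_diag :
    RingHom.ker (((epsIsoU f hU hV hUV halg).hom ≫
      (pullback.diagonal f).appLE (OmegaSh.diagNbhd f U) U
        (OmegaSh.le_preimage_diagNbhd f U)).hom) =
      KaehlerDifferential.ideal Γ(S, V) Γ(X, U) := by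
  ext w
  rw [RingHom.mem_ker, KaehlerDifferential.ideal, RingHom.mem_ker]
  change ((pullback.diagonal f).appLE (OmegaSh.diagNbhd f U) U
        (OmegaSh.le_preimage_diagNbhd f U)).hom ((epsIsoU f hU hV hUV halg).hom.hom w) = 0 ↔ _
  rw [epsIsoU_diag]

variable (n : ℕ)

omit hU hV hUV halg in
theorem pr1_le_box (U : X.Opens) : PrinPart.pr1 f n ⁻¹ᵁ U ≤
    PrinPart.nbhdι f n ⁻¹ᵁ OmegaSh.diagNbhd f U := fun z hz =>
  ⟨hz, by
    change PrinPart.pr2 f n z ∈ U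
    rw [← PrinPart.pr1_apply]; exact hz⟩

/-- `Θ : Γ(X,U) ⊗ Γ(X,U) ⟶ Γ(Δ^(n), pr1⁻¹ U)`. -/
noncomputable def thetaHomU : CommRingCat.of (Γ(X, U) ⊗[Γ(S, V)] Γ(X, U)) ⟶
    Γ(PrinPart.nbhd f n, PrinPart.pr1 f n ⁻¹ᵁ U) :=
  (epsIsoU f hU hV hUV halg).hom ≫ (PrinPart.nbhdι f n).appLE (OmegaSh.diagNbhd f U)
    (PrinPart.pr1 f n ⁻¹ᵁ U) (pr1_le_box f n U)

theorem thetaHomU_tmul (b b' : Γ(X, U)) :
    (thetaHomU f hU hV hUV halg n).hom (b ⊗ₜ[Γ(S, V)] b') =
      ((PrinPart.pr1 f n).app U).hom b *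
      ((PrinPart.pr2 f n).appLE U (PrinPart.pr1 f n ⁻¹ᵁ U)
        (PrinPart.preimage_pr1 f n U).le).hom b' := by
  change ((PrinPart.nbhdι f n).appLE (OmegaSh.diagNbhd f U)
    (PrinPart.pr1 f n ⁻¹ᵁ U) (pr1_le_box f n U)).hom
      ((epsIsoU f hU hV hUV halg).hom.hom _) = _
  rw [epsIsoU_tmul, map_mul]
  have h1 : (pullback.fst f f).appLE U (OmegaSh.diagNbhd f U) inf_le_left ≫
      (PrinPart.nbhdι f n).appLE (OmegaSh.diagNbhd f U)
        (PrinPart.pr1 f n ⁻¹ᵁ U) (pr1_le_box f n U) =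
      (PrinPart.pr1 f n).app U := by
    rw [Scheme.Hom.appLE_comp_appLE, Scheme.Hom.app_eq_appLE]
    rfl
  have h2 : (pullback.snd f f).appLE U (OmegaSh.diagNbhd f U) inf_le_right ≫
      (PrinPart.nbhdι f n).appLE (OmegaSh.diagNbhd f U)
        (PrinPart.pr1 f n ⁻¹ᵁ U) (pr1_le_box f n U) =
      (PrinPart.pr2 f n).appLE U (PrinPart.pr1 f n ⁻¹ᵁ U)
        (PrinPart.preimage_pr1 f n U).le := by
    rw [Scheme.Hom.appLE_comp_appLE]
    rfl
  have e1 := congrArg (fun φ => φ.hom b) h1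
  have e2 := congrArg (fun φ => φ.hom b') h2
  exact congrArg₂ (· * ·) e1 e2

theorem thetaHomU_surjective : Function.Surjective (thetaHomU f hU hV hUV halg n).hom := by
  intro c
  obtain ⟨Q, rfl⟩ := exists_sum_pr1_pr2 f hU hV hUV n c
  refine ⟨∑ q ∈ Q, q.1 ⊗ₜ[Γ(S, V)] q.2, ?_⟩
  rw [map_sum]
  refine Finset.sum_congr rfl fun q _ => ?_
  rw [thetaHomU_tmul]

theorem ker_thetaHomU :
    RingHom.ker (thetaHomU f hU hV hUV halg n).hom =
      KaehlerDifferential.ideal Γ(S, V) Γ(X, U) ^ (n + 1) := by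
  rw [thetaHomU, CommRingCat.hom_comp, ← RingHom.comap_ker,
    ker_nbhdι_appLE_box f hU hV hUV n (pr1_le_box f n U),
    comap_pow_of_bijective _ (epsIsoU_bijective f hU hV hUV halg), RingHom.comap_ker,
    ← ker_epsIsoU_diag f hU hV hUV halg]
  rfl

end AffineU

end Groth.Agent.Lib.Helper2.PrinPartB
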