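import Mathlib
import Groth.Agent.Lib.Helper28.PullTensor1
import Groth.Agent.Lib.Helper2.PrinPart.Box
import Groth.Agent.Lib.Helper2.PrinPart.Trans
import Groth.Agent.Lib.Helper2.PushStalk.Flat
import Groth.Prelude.Def_Omega3

/-! # `P^n(F)` is generated by the image of `d^n` -/

set_option autoImplicit false
universe u
open CategoryTheory CategoryTheory.Limits AlgebraicGeometry TopologicalSpace Opposite
open Groth.Agent.Lib.Helper28.StalkTensor
open ChangeOfRings
open Groth.Agent.Lib.Helper29.QCoh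

namespace Groth.Agent.Lib.Helper2.PrinPartB

theorem extendScalars_induction {R S : Type u} [CommRing R] [CommRing S] (φ : R →+* S)
    (M : ModuleCat.{u} R) (p : (ModuleCat.extendScalars φ).obj M → Prop) (h0 : p 0)
    (hadd : ∀ a b, p a → p b → p (a + b))
    (htmul : ∀ (c : S) (m : M), p (c ⊗ₜ[R, φ] m)) (τ : (ModuleCat.extendScalars φ).obj M) :
    p τ :=
  TensorProduct.induction_on τ h0 htmul hadd

section PullGerms

variable {Z Y : Scheme.{u}} (g : Z ⟶ Y) (F : Y.Modules) (z : Z)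

/-- the generators: germs of pulled-back sections -/
def pullGerms : Set ((DerSch.stalkFunctor Z z).obj ((Scheme.Modules.pullback g).obj F)) :=
  {n | ∃ (V : Y.Opens) (hV : g z ∈ V) (t : Γ(F, V)),
    n = ((Scheme.Modules.pullback g).obj F).presheaf.germ (g ⁻¹ᵁ V) z hV (OmegaSh.pullSect g F V t)}

/-- The stalk of a pullback is generated by the germs of pulled-back sections. -/
theorem span_pullGerms : Submodule.span (Z.presheaf.stalk z) (pullGerms g F z) = ⊤ := by
  rw [eq_top_iff]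
  rintro n -
  let Φ := (pullStalkNatIso g z).app F
  have h1 : n = Φ.inv.hom (Φ.hom.hom n) := by
    have := congrArg (fun φ => φ.hom n) Φ.hom_inv_id
    exact this.symm
  rw [h1]
  generalize Φ.hom.hom n = τ
  refine extendScalars_induction (g.stalkMap z).hom _
    (fun τ => Φ.inv.hom τ ∈ Submodule.span (Z.presheaf.stalk z) (pullGerms g F z)) ?_ ?_ ?_ τ
  · change Φ.inv.hom 0 ∈ _
    rw [map_zero]; exact Submodule.zero_mem _
  · intro a b ha hb
    change Φ.inv.hom (a + b) ∈ _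
    rw [map_add]; exact Submodule.add_mem _ ha hb
  · intro c m
    obtain ⟨V, hV, t, rfl⟩ := F.presheaf.exists_germ_eq m
    have h2 := pullStalk_gm_etaSec g z F V hV t
    have h3 : (c ⊗ₜ[Y.presheaf.stalk (g z), (g.stalkMap z).hom]
        (F.presheaf.germ V (g z) hV t) : (ModuleCat.extendScalars (g.stalkMap z).hom).obj
          ((DerSch.stalkFunctor Y (g z)).obj F)) =
        c • Φ.hom.hom (((Scheme.Modules.pullback g).obj F).presheaf.germ (g ⁻¹ᵁ V) z hV
          (OmegaSh.pullSect g F V t)) := by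
      have h4 : Φ.hom.hom (((Scheme.Modules.pullback g).obj F).presheaf.germ (g ⁻¹ᵁ V) z hV
          (OmegaSh.pullSect g F V t)) =
          (1 : Z.presheaf.stalk z) ⊗ₜ[Y.presheaf.stalk (g z), (g.stalkMap z).hom]
            (F.presheaf.germ V (g z) hV t) := h2
      rw [h4]
      have h6 := ModuleCat.ExtendScalars.smul_tmul (g.stalkMap z).hom
        (M := (DerSch.stalkFunctor Y (g z)).obj F) c 1 (F.presheaf.germ V (g z) hV t)
      rw [mul_one] at h6
      exact h6.symm
    change Φ.inv.hom (c ⊗ₜ[Y.presheaf.stalk (g z), (g.stalkMap z).hom]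
        (F.presheaf.germ V (g z) hV t)) ∈ _
    rw [h3, map_smul]
    have h5 : Φ.inv.hom (Φ.hom.hom (((Scheme.Modules.pullback g).obj F).presheaf.germ
        (g ⁻¹ᵁ V) z hV (OmegaSh.pullSect g F V t))) = _ :=
      congrArg (fun φ => φ.hom (((Scheme.Modules.pullback g).obj F).presheaf.germ
        (g ⁻¹ᵁ V) z hV (OmegaSh.pullSect g F V t))) Φ.hom_inv_id
    rw [h5]
    exact Submodule.smul_mem _ _ (Submodule.subset_span ⟨V, hV, t, rfl⟩)

end PullGerms

section DP

variable {X S : Scheme.{u}} (f : X ⟶ S) (n : ℕ) (F : X.Modules)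

/-- `d^n` is semilinear with respect to the second projection. -/
theorem dP_smul (U : X.Opens) (r : Γ(X, U)) (t : Γ(F, U)) :
    PrinPart.dP f n F U (r • t) =
      (show Γ((Scheme.Modules.pullback (PrinPart.pr2 f n)).obj F, PrinPart.pr1 f n ⁻¹ᵁ U) from
        ((PrinPart.pr2 f n).appLE U (PrinPart.pr1 f n ⁻¹ᵁ U)
          (PrinPart.preimage_pr1 f n U).le).hom r •
        (show Γ((Scheme.Modules.pullback (PrinPart.pr2 f n)).obj F, PrinPart.pr1 f n ⁻¹ᵁ U) from
          PrinPart.dP f n F U t)) := by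
  rw [PrinPart.dP_apply, PrinPart.dP_apply, OmegaSh.pullSect_smul]
  exact ((Scheme.Modules.pullback (PrinPart.pr2 f n)).obj F).map_smul
    (homOfLE (PrinPart.preimage_pr1 f n U).le) _ _

theorem isInducing_pr1 : Topology.IsInducing (PrinPart.pr1 f n).base :=
  (pr1Homeo f n).isInducing

variable {F} {G : X.Modules} (a b : PrinPart.PMod f n F ⟶ G)
  (h : ∀ (U : X.Opens) (t : Γ(F, U)),
    a.app U (PrinPart.dP f n F U t) = b.app U (PrinPart.dP f n F U t))

include h in
/-- The two maps agree on sections of the form `Σ q.1 • d^n(q.2 • t)`. -/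
theorem app_sum_eq (U : X.Opens) (Q : Finset (Γ(X, U) × Γ(X, U))) (t : Γ(F, U)) :
    a.app U (∑ q ∈ Q, q.1 • PrinPart.dP f n F U (q.2 • t)) =
      b.app U (∑ q ∈ Q, q.1 • PrinPart.dP f n F U (q.2 • t)) := by
  rw [map_sum, map_sum]
  refine Finset.sum_congr rfl fun q _ => ?_
  rw [Scheme.Modules.Hom.app_smul, Scheme.Modules.Hom.app_smul, h]

/-- Key local computation: the germ `c • germ(η t)` comes from a section
`Σ q.1 • d^n(q.2 • t)` over a small affine box. -/
theorem exists_box_repr (z : PrinPart.nbhd f n) (V₀ : X.Opens) (hV₀ : PrinPart.pr2 f n z ∈ V₀)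
    (t : Γ(F, V₀)) (c : (PrinPart.nbhd f n).presheaf.stalk z) :
    ∃ (U : X.Opens) (hzU : PrinPart.pr1 f n z ∈ U) (hUV₀ : U ≤ V₀)
      (Q : Finset (Γ(X, U) × Γ(X, U))),
      (c • (((Scheme.Modules.pullback (PrinPart.pr2 f n)).obj F).presheaf.germ
          (PrinPart.pr2 f n ⁻¹ᵁ V₀) z hV₀ (OmegaSh.pullSect (PrinPart.pr2 f n) F V₀ t) :
          (DerSch.stalkFunctor (PrinPart.nbhd f n) z).obj
            ((Scheme.Modules.pullback (PrinPart.pr2 f n)).obj F)) :
          (DerSch.stalkFunctor (PrinPart.nbhd f n) z).obj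
            ((Scheme.Modules.pullback (PrinPart.pr2 f n)).obj F)) =
        ((Scheme.Modules.pullback (PrinPart.pr2 f n)).obj F).presheaf.germ
          (PrinPart.pr1 f n ⁻¹ᵁ U) z hzU
          (show Γ((Scheme.Modules.pullback (PrinPart.pr2 f n)).obj F, PrinPart.pr1 f n ⁻¹ᵁ U)
            from (∑ q ∈ Q, q.1 • PrinPart.dP f n F U
              (q.2 • F.presheaf.map (homOfLE hUV₀).op t) :
              Γ(PrinPart.PMod f n F, U))) := by
  obtain ⟨Ω, hzΩ, γ, rfl⟩ := (PrinPart.nbhd f n).presheaf.exists_germ_eq c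
  have hx1 : PrinPart.pr1 f n z ∈ PrinPart.toNbhd f n ⁻¹ᵁ Ω := by
    change PrinPart.toNbhd f n (PrinPart.pr1 f n z) ∈ Ω
    rw [toNbhd_pr1_apply]; exact hzΩ
  have hx2 : PrinPart.pr1 f n z ∈ V₀ := by rw [PrinPart.pr1_apply]; exact hV₀
  obtain ⟨V, hV, hxV, -⟩ := exists_isAffineOpen_mem_and_subset
    (x := f (PrinPart.pr1 f n z)) (U := ⊤) trivial
  obtain ⟨U, hU, hzU, hUle⟩ := exists_isAffineOpen_mem_and_subset (x := PrinPart.pr1 f n z)
    (U := (PrinPart.toNbhd f n ⁻¹ᵁ Ω) ⊓ V₀ ⊓ f ⁻¹ᵁ V) ⟨⟨hx1, hx2⟩, hxV⟩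
  have hUΩ' : U ≤ PrinPart.toNbhd f n ⁻¹ᵁ Ω := hUle.trans (inf_le_left.trans inf_le_left)
  have hUV₀ : U ≤ V₀ := hUle.trans (inf_le_left.trans inf_le_right)
  have hUV : U ≤ f ⁻¹ᵁ V := hUle.trans inf_le_right
  have hΩ : PrinPart.pr1 f n ⁻¹ᵁ U ≤ Ω := fun z' hz' => by
    have : PrinPart.toNbhd f n (PrinPart.pr1 f n z') ∈ Ω := hUΩ' hz'
    rwa [toNbhd_pr1_apply] at this
  have hΩ2 : PrinPart.pr1 f n ⁻¹ᵁ U ≤ PrinPart.pr2 f n ⁻¹ᵁ V₀ :=
    (PrinPart.preimage_pr1 f n U).le.trans ((PrinPart.pr2 f n).preimage_mono hUV₀)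
  obtain ⟨Q, hQ⟩ := exists_sum_pr1_pr2 f hU hV hUV n
    ((PrinPart.nbhd f n).presheaf.map (homOfLE hΩ).op γ)
  refine ⟨U, hzU, hUV₀, Q, ?_⟩
  -- rewrite the two germs over the common open
  have e1 : (PrinPart.nbhd f n).presheaf.germ Ω z hzΩ γ =
      (PrinPart.nbhd f n).presheaf.germ (PrinPart.pr1 f n ⁻¹ᵁ U) z hzU
        ((PrinPart.nbhd f n).presheaf.map (homOfLE hΩ).op γ) :=
    ((PrinPart.nbhd f n).presheaf.germ_res_apply (homOfLE hΩ) z hzU γ).symm
  have e2 : ((Scheme.Modules.pullback (PrinPart.pr2 f n)).obj F).presheaf.germ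
      (PrinPart.pr2 f n ⁻¹ᵁ V₀) z hV₀ (OmegaSh.pullSect (PrinPart.pr2 f n) F V₀ t) =
      ((Scheme.Modules.pullback (PrinPart.pr2 f n)).obj F).presheaf.germ
        (PrinPart.pr1 f n ⁻¹ᵁ U) z hzU
        (((Scheme.Modules.pullback (PrinPart.pr2 f n)).obj F).presheaf.map (homOfLE hΩ2).op
          (OmegaSh.pullSect (PrinPart.pr2 f n) F V₀ t)) :=
    (((Scheme.Modules.pullback (PrinPart.pr2 f n)).obj F).presheaf.germ_res_apply
      (homOfLE hΩ2) z hzU _).symm
  have e3 : ((Scheme.Modules.pullback (PrinPart.pr2 f n)).obj F).presheaf.map (homOfLE hΩ2).op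
      (OmegaSh.pullSect (PrinPart.pr2 f n) F V₀ t) =
      PrinPart.dP f n F U (F.presheaf.map (homOfLE hUV₀).op t) := by
    rw [PrinPart.dP_apply, OmegaSh.pullSect_map, OmegaSh.resM_resM]
    rfl
  rw [e1, e2, e3, ← germ_smul, hQ]
  congr 1
  rw [Finset.sum_smul]
  refine Finset.sum_congr rfl fun q _ => ?_
  rw [mul_smul, dP_smul]
  rfl

include h in
theorem stalkMap_eq_of_dP (z : PrinPart.nbhd f n)
    (m : (PrinPart.PMod f n F).presheaf.stalk (PrinPart.pr1 f n z)) :
    stalkMap a (PrinPart.pr1 f n z) m = stalkMap b (PrinPart.pr1 f n z) m := by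
  let sp : (PrinPart.PMod f n F).presheaf.stalk (PrinPart.pr1 f n z) ⟶
      ((Scheme.Modules.pullback (PrinPart.pr2 f n)).obj F).presheaf.stalk z :=
    PushStalk.sp (PrinPart.pr1 f n) ((Scheme.Modules.pullback (PrinPart.pr2 f n)).obj F) z
  haveI : IsIso sp := PushStalk.isIso_sp (PrinPart.pr1 f n)
    ((Scheme.Modules.pullback (PrinPart.pr2 f n)).obj F) z (isInducing_pr1 f n)
  have hinv : ∀ y, inv sp (sp y) = y := fun y => congrArg (fun φ => φ y) (IsIso.hom_inv_id sp)
  rw [← hinv m]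
  suffices H : ∀ (n' : (DerSch.stalkFunctor (PrinPart.nbhd f n) z).obj
      ((Scheme.Modules.pullback (PrinPart.pr2 f n)).obj F)),
      n' ∈ Submodule.span ((PrinPart.nbhd f n).presheaf.stalk z)
        (pullGerms (PrinPart.pr2 f n) F z) →
      ∀ c : (PrinPart.nbhd f n).presheaf.stalk z,
      stalkMap a (PrinPart.pr1 f n z) (inv sp (c • n' :
        (DerSch.stalkFunctor (PrinPart.nbhd f n) z).obj
          ((Scheme.Modules.pullback (PrinPart.pr2 f n)).obj F))) =
        stalkMap b (PrinPart.pr1 f n z) (inv sp (c • n' :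
        (DerSch.stalkFunctor (PrinPart.nbhd f n) z).obj
          ((Scheme.Modules.pullback (PrinPart.pr2 f n)).obj F))) by
    have h0 := H (sp m) (by rw [span_pullGerms]; exact Submodule.mem_top) 1
    rw [one_smul] at h0
    exact h0
  intro n' hn'
  induction hn' using Submodule.span_induction with
  | mem x hx =>
    obtain ⟨V₀, hV₀, t, rfl⟩ := hx
    intro c
    obtain ⟨U, hzU, hUV₀, Q, hrepr⟩ := exists_box_repr f n z V₀ hV₀ t c
    have h2 : sp ((PrinPart.PMod f n F).presheaf.germ U (PrinPart.pr1 f n z) hzU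
        (∑ q ∈ Q, q.1 • PrinPart.dP f n F U (q.2 • F.presheaf.map (homOfLE hUV₀).op t))) = _ :=
      PushStalk.sp_germ (PrinPart.pr1 f n)
        ((Scheme.Modules.pullback (PrinPart.pr2 f n)).obj F) z U hzU
        (∑ q ∈ Q, q.1 • PrinPart.dP f n F U (q.2 • F.presheaf.map (homOfLE hUV₀).op t) :
          Γ(PrinPart.PMod f n F, U))
    have e := hrepr.trans h2.symm
    have ea := congrArg (fun y => stalkMap a (PrinPart.pr1 f n z) (inv sp y)) e
    have eb := congrArg (fun y => stalkMap b (PrinPart.pr1 f n z) (inv sp y)) e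
    refine ea.trans (Eq.trans ?_ eb.symm)
    change stalkMap a (PrinPart.pr1 f n z) (inv sp (sp _)) =
      stalkMap b (PrinPart.pr1 f n z) (inv sp (sp _))
    rw [hinv, stalkMap_germ, stalkMap_germ, app_sum_eq f n a b h]
  | zero =>
    intro c
    rw [smul_zero]
    change stalkMap a (PrinPart.pr1 f n z) (inv sp 0) = stalkMap b (PrinPart.pr1 f n z) (inv sp 0)
    rw [map_zero, map_zero, map_zero]
  | add x y _ _ hx hy =>
    intro c
    rw [smul_add]
    have hadd : inv sp (c • x + c • y) = inv sp (c • x) + inv sp (c • y) :=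
      map_add (inv sp).hom (c • x) (c • y)
    refine (congrArg (fun w => stalkMap a (PrinPart.pr1 f n z) w) hadd).trans
      (Eq.trans ?_ (congrArg (fun w => stalkMap b (PrinPart.pr1 f n z) w) hadd).symm)
    change stalkMap a (PrinPart.pr1 f n z) (inv sp (c • x) + inv sp (c • y)) =
      stalkMap b (PrinPart.pr1 f n z) (inv sp (c • x) + inv sp (c • y))
    rw [map_add, map_add]
    exact congrArg₂ (· + ·) (hx c) (hy c)
  | smul r x _ hx =>
    intro c
    rw [smul_smul]
    exact hx (c * r)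

omit h in
/-- Equality of `a (d^n t)` and `b (d^n t)` can be checked locally. -/
theorem app_dP_eq_of_locally (U' : X.Opens) (t : Γ(F, U'))
    (hloc : ∀ x ∈ U', ∃ (W : X.Opens) (hW : W ≤ U'), x ∈ W ∧
      a.app W (PrinPart.dP f n F W (F.presheaf.map (homOfLE hW).op t)) =
        b.app W (PrinPart.dP f n F W (F.presheaf.map (homOfLE hW).op t))) :
    a.app U' (PrinPart.dP f n F U' t) = b.app U' (PrinPart.dP f n F U' t) := by
  apply section_ext G
  intro x hx
  obtain ⟨W, hW, hxW, hEq⟩ := hloc x hx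
  rw [← germ_res G hW x hxW, ← germ_res G hW x hxW]
  congr 1
  change G.presheaf.map (homOfLE hW).op _ = G.presheaf.map (homOfLE hW).op _
  have h1 := app_res' a hW (PrinPart.dP f n F U' t)
  have h2 := app_res' b hW (PrinPart.dP f n F U' t)
  rw [← PrinPart.dP_map] at h1 h2
  exact h1.symm.trans (hEq.trans h2)

include h in
/-- `P^n(F)` is generated by the image of `d^n`. -/
theorem hom_ext_of_dP : a = b := by
  apply Scheme.Modules.hom_ext
  intro U
  ext m
  apply section_ext G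
  intro x hx
  obtain ⟨z, rfl⟩ : ∃ z, PrinPart.pr1 f n z = x :=
    ⟨PrinPart.toNbhd f n x, pr1_toNbhd_apply f n x⟩
  rw [← stalkMap_germ, ← stalkMap_germ]
  exact stalkMap_eq_of_dP f n a b h z _

end DP

end Groth.Agent.Lib.Helper2.PrinPartB
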