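import Mathlib
import Groth.Agent.Lib.Helper2.PrinPart.Basic

/-! # Principal parts of order zero -/

set_option autoImplicit false
universe u
open CategoryTheory CategoryTheory.Limits AlgebraicGeometry TopologicalSpace Opposite

namespace Groth.Agent.Lib.Helper2.PrinPartB

open Scheme.Modules in
/-- Pushforward along an isomorphism of schemes is an equivalence. -/
noncomputable def pushEquiv {Z X : Scheme.{u}} (g : Z ⟶ X) [IsIso g] : Z.Modules ≌ X.Modules :=
  CategoryTheory.Equivalence.mk (pushforward g) (pushforward (inv g))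
    ((pushforwardId Z).symm ≪≫ pushforwardCongr (IsIso.hom_inv_id g).symm ≪≫
      (pushforwardComp g (inv g)).symm)
    (pushforwardComp (inv g) g ≪≫ pushforwardCongr (IsIso.inv_hom_id g) ≪≫ pushforwardId X)

instance {Z X : Scheme.{u}} (g : Z ⟶ X) [IsIso g] :
    (Scheme.Modules.pushforward g).IsEquivalence :=
  (pushEquiv g).isEquivalence_functor

instance {Z X : Scheme.{u}} (g : Z ⟶ X) [IsIso g] (F : X.Modules) :
    IsIso ((Scheme.Modules.pullbackPushforwardAdjunction g).unit.app F) :=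
  inferInstance

theorem pullSect_bijective {Z X : Scheme.{u}} (g : Z ⟶ X) [IsIso g] (F : X.Modules) (U : X.Opens) :
    Function.Bijective (OmegaSh.pullSect g F U) := by
  haveI : IsIso (OmegaSh.pullSect g F U) :=
    inferInstanceAs (IsIso (((Scheme.Modules.pullbackPushforwardAdjunction g).unit.app F).app U))
  exact ConcreteCategory.bijective_of_isIso _

variable {X S : Scheme.{u}} (f : X ⟶ S)

instance isIso_toNbhd_zero : IsIso (PrinPart.toNbhd f 0) := by
  have h1 : (PrinPart.diagCl f).ker ≤ (PrinPart.diagCl f).ker ^ (0 + 1) := by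
    rw [zero_add, pow_one]
  haveI : IsIso (Scheme.IdealSheafData.inclusion
      (PrinPart.ker_pow_succ_le (PrinPart.diagCl f) 0)) :=
    ⟨Scheme.IdealSheafData.inclusion h1,
      (Scheme.IdealSheafData.inclusion_comp _ _).trans (Scheme.IdealSheafData.inclusion_id _),
      (Scheme.IdealSheafData.inclusion_comp _ _).trans (Scheme.IdealSheafData.inclusion_id _)⟩
  change IsIso ((PrinPart.diagCl f).toImage ≫ _)
  infer_instance

theorem pr1_zero_eq : PrinPart.pr1 f 0 = inv (PrinPart.toNbhd f 0) := by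
  rw [← cancel_epi (PrinPart.toNbhd f 0), PrinPart.toNbhd_pr1, IsIso.hom_inv_id]

theorem pr2_zero_eq : PrinPart.pr2 f 0 = inv (PrinPart.toNbhd f 0) := by
  rw [← cancel_epi (PrinPart.toNbhd f 0), PrinPart.toNbhd_pr2, IsIso.hom_inv_id]

instance : IsIso (PrinPart.pr1 f 0) := by rw [pr1_zero_eq]; infer_instance
instance : IsIso (PrinPart.pr2 f 0) := by rw [pr2_zero_eq]; infer_instance

theorem dP_zero_bijective (F : X.Modules) (U : X.Opens) :
    Function.Bijective (PrinPart.dP f 0 F U) := by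
  have hle : PrinPart.pr2 f 0 ⁻¹ᵁ U ≤ PrinPart.pr1 f 0 ⁻¹ᵁ U := (PrinPart.preimage_pr1 f 0 U).ge
  haveI : IsIso (homOfLE (PrinPart.preimage_pr1 f 0 U).le).op :=
    ⟨(homOfLE hle).op, Subsingleton.elim _ _, Subsingleton.elim _ _⟩
  have h2 : Function.Bijective (((Scheme.Modules.pullback (PrinPart.pr2 f 0)).obj F).presheaf.map
      (homOfLE (PrinPart.preimage_pr1 f 0 U).le).op) :=
    ConcreteCategory.bijective_of_isIso _
  exact h2.comp (pullSect_bijective (PrinPart.pr2 f 0) F U)

theorem app_eq_of_eq {Z Y : Scheme.{u}} {g1 g2 : Z ⟶ Y} (h : g1 = g2) (U : Y.Opens)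
    (e : g1 ⁻¹ᵁ U ≤ g2 ⁻¹ᵁ U) (a : Γ(Y, U)) :
    Z.presheaf.map (homOfLE e).op (g2.app U a) = g1.app U a := by
  subst h
  have : homOfLE e = 𝟙 _ := Subsingleton.elim _ _
  rw [this, op_id, CategoryTheory.Functor.map_id]
  rfl

theorem dP_zero_smul (F : X.Modules) (U : X.Opens) (a : Γ(X, U)) (t : Γ(F, U)) :
    PrinPart.dP f 0 F U (a • t) = a • PrinPart.dP f 0 F U t := by
  rw [PrinPart.dP_apply, PrinPart.dP_apply, OmegaSh.pullSect_smul]
  refine (((Scheme.Modules.pullback (PrinPart.pr2 f 0)).obj F).map_smul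
    (homOfLE (PrinPart.preimage_pr1 f 0 U).le) _ _).trans ?_
  rw [app_eq_of_eq ((pr1_zero_eq f).trans (pr2_zero_eq f).symm) U]
  rfl

/-- `d^0` as a morphism of modules. -/
noncomputable def d0 (F : X.Modules) : F ⟶ PrinPart.PMod f 0 F :=
  (⟨PresheafOfModules.homMk (PrinPart.dPHom f 0 F)
    (fun W r m => dP_zero_smul f F W.unop r m)⟩ :
    SheafOfModules.Hom (R := X.ringCatSheaf) F (PrinPart.PMod f 0 F))

theorem d0_app (F : X.Modules) (U : X.Opens) (t : Γ(F, U)) :
    (d0 f F).app U t = PrinPart.dP f 0 F U t := rfl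

instance (F : X.Modules) : IsIso (d0 f F) := by
  rw [Scheme.Modules.Hom.isIso_iff_isIso_app]
  intro U
  rw [ConcreteCategory.isIso_iff_bijective]
  exact dP_zero_bijective f F U

theorem isDiffOpLE_zero_iff (F G : X.Modules) (D : F.presheaf ⟶ G.presheaf) :
    PrinPart.IsDiffOpLE f F G 0 D ↔
      ∀ (U : X.Opens) (a : Γ(X, U)) (t : Γ(F, U)), D.app (op U) (a • t) = a • D.app (op U) t := by
  constructor
  · rintro ⟨v, hv⟩ U a t
    rw [hv, hv, dP_zero_smul, Scheme.Modules.Hom.app_smul]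
  · intro hD
    let D' : F ⟶ G :=
      (⟨PresheafOfModules.homMk D (fun W r m => hD W.unop r m)⟩ :
        SheafOfModules.Hom (R := X.ringCatSheaf) F G)
    refine ⟨inv (d0 f F) ≫ D', fun U t => ?_⟩
    rw [← d0_app, Scheme.Modules.Hom.comp_app, ConcreteCategory.comp_apply,
      Scheme.Modules.inv_app]
    have h1 : inv ((d0 f F).app U) ((d0 f F).app U t) = t :=
      congrArg (fun φ => φ t) (IsIso.hom_inv_id ((d0 f F).app U))
    rw [h1]
    rfl

end Groth.Agent.Lib.Helper2.PrinPartB
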