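import Mathlib
import Groth.Agent.Lib.Helper2.PrinPart.AffineU
import Groth.Agent.Lib.Helper2.PrinPart.Gen
import Groth.Agent.Lib.Helper2.TildeHomAffine
import Groth.Agent.Helper19.PullUnit
import Groth.Prelude.Def_PP16

/-! # Maps out of `P^n(F)` on an affine scheme from maps out of the ring-level `P^n(M)` -/

set_option autoImplicit false
universe u
open CategoryTheory CategoryTheory.Limits AlgebraicGeometry TopologicalSpace Opposite
open TensorProduct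
open Groth.Agent.Lib.Helper29.QCoh

namespace Groth.Agent.Lib.Helper2.PrinPartB

section AffineMod

variable {X S : Scheme.{u}} (f : X ⟶ S) {U : X.Opens} {V : S.Opens}
  (hU : IsAffineOpen U) (hV : IsAffineOpen V) (hUV : U ≤ f ⁻¹ᵁ V)
  [Algebra Γ(S, V) Γ(X, U)] (halg : algebraMap Γ(S, V) Γ(X, U) = (f.appLE V U hUV).hom)
  (n : ℕ)

include hU hV hUV in
theorem isAffineOpen_pr1_preimage_box : IsAffineOpen (PrinPart.pr1 f n ⁻¹ᵁ U) := by
  rw [pr1_preimage_eq]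
  exact (isAffineOpen_boxW f hU hV hUV).preimage (PrinPart.infNbhdι (PrinPart.diagCl f) n)

/-- `P^n_{B/A} ≃ Γ(Δ^(n), pr1⁻¹ U)`. -/
noncomputable def thetaEquiv :
    PP16.P n Γ(S, V) Γ(X, U) ≃+* Γ(PrinPart.nbhd f n, PrinPart.pr1 f n ⁻¹ᵁ U) :=
  (Ideal.quotEquivOfEq (ker_thetaHomU f hU hV hUV halg n).symm).trans
    (RingHom.quotientKerEquivOfSurjective (thetaHomU_surjective f hU hV hUV halg n))

theorem thetaEquiv_mk (w : Γ(X, U) ⊗[Γ(S, V)] Γ(X, U)) :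
    thetaEquiv f hU hV hUV halg n (Ideal.Quotient.mk _ w) =
      (thetaHomU f hU hV hUV halg n).hom w := rfl

theorem thetaEquiv_symm_theta (w : Γ(X, U) ⊗[Γ(S, V)] Γ(X, U)) :
    (thetaEquiv f hU hV hUV halg n).symm ((thetaHomU f hU hV hUV halg n).hom w) =
      Ideal.Quotient.mk _ w := by
  rw [← thetaEquiv_mk, RingEquiv.symm_apply_apply]

theorem thetaEquiv_symm_pr2 (b : Γ(X, U)) :
    (thetaEquiv f hU hV hUV halg n).symm
      (((PrinPart.pr2 f n).appLE U (PrinPart.pr1 f n ⁻¹ᵁ U)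
        (PrinPart.preimage_pr1 f n U).le).hom b) = PP16.dn n Γ(S, V) Γ(X, U) b := by
  have h := thetaHomU_tmul f hU hV hUV halg n 1 b
  rw [map_one, one_mul] at h
  rw [← h, thetaEquiv_symm_theta]
  rfl

theorem thetaEquiv_symm_pr1 (b : Γ(X, U)) :
    (thetaEquiv f hU hV hUV halg n).symm (((PrinPart.pr1 f n).app U).hom b) =
      algebraMap Γ(X, U) (PP16.P n Γ(S, V) Γ(X, U)) b := by
  have h := thetaHomU_tmul f hU hV hUV halg n b 1
  rw [map_one, mul_one] at h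
  rw [← h, thetaEquiv_symm_theta]
  rfl

/-- The inverse of `thetaEquiv` as a linear map for the right structures. -/
noncomputable def rhoB :
    letI := ((PrinPart.pr2 f n).appLE U (PrinPart.pr1 f n ⁻¹ᵁ U)
      (PrinPart.preimage_pr1 f n U).le).hom.toAlgebra
    Γ(PrinPart.nbhd f n, PrinPart.pr1 f n ⁻¹ᵁ U) →ₗ[Γ(X, U)] PP16.Pr n Γ(S, V) Γ(X, U) :=
  letI := ((PrinPart.pr2 f n).appLE U (PrinPart.pr1 f n ⁻¹ᵁ U)
    (PrinPart.preimage_pr1 f n U).le).hom.toAlgebra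
  { toFun := fun c => (thetaEquiv f hU hV hUV halg n).symm c
    map_add' := fun c c' => map_add _ c c'
    map_smul' := fun b c => by
      change (thetaEquiv f hU hV hUV halg n).symm
        (((PrinPart.pr2 f n).appLE U (PrinPart.pr1 f n ⁻¹ᵁ U)
          (PrinPart.preimage_pr1 f n U).le).hom b * c) =
        PP16.dn n Γ(S, V) Γ(X, U) b * (thetaEquiv f hU hV hUV halg n).symm c
      rw [map_mul, thetaEquiv_symm_pr2] }

theorem rhoB_apply (c : Γ(PrinPart.nbhd f n, PrinPart.pr1 f n ⁻¹ᵁ U)) :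
    letI := ((PrinPart.pr2 f n).appLE U (PrinPart.pr1 f n ⁻¹ᵁ U)
      (PrinPart.preimage_pr1 f n U).le).hom.toAlgebra
    rhoB f hU hV hUV halg n c = (thetaEquiv f hU hV hUV halg n).symm c := rfl

set_option maxRecDepth 8000 in
include hU hV hUV halg in
theorem exists_addHom_PMod (F G : X.Modules) [F.IsQuasicoherent]
    (u₀ : PP16.PM n Γ(S, V) Γ(X, U) Γ(F, U) →+ Γ(G, U))
    (hu₀ : ∀ (b : Γ(X, U)) (t : PP16.PM n Γ(S, V) Γ(X, U) Γ(F, U)),
      u₀ (algebraMap Γ(X, U) (PP16.P n Γ(S, V) Γ(X, U)) b • t) = b • u₀ t) :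
    ∃ l : Γ(PrinPart.PMod f n F, U) →+ Γ(G, U),
      (∀ (b : Γ(X, U)) (m : Γ(PrinPart.PMod f n F, U)), l (b • m) = b • l m) ∧
      ∀ m : Γ(F, U), l (PrinPart.dP f n F U m) =
        u₀ (PP16.dM n Γ(S, V) Γ(X, U) Γ(F, U) m) := by
  letI alg2 : Algebra Γ(X, U) Γ(PrinPart.nbhd f n, PrinPart.pr1 f n ⁻¹ᵁ U) :=
    ((PrinPart.pr2 f n).appLE U (PrinPart.pr1 f n ⁻¹ᵁ U)
      (PrinPart.preimage_pr1 f n U).le).hom.toAlgebra
  have hΩ := isAffineOpen_pr1_preimage_box f hU hV hUV n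
  let pSE := pullbackSectionsEquiv (PrinPart.pr2 f n) F hΩ hU (PrinPart.preimage_pr1 f n U).le
  let T' : Γ(PrinPart.nbhd f n, PrinPart.pr1 f n ⁻¹ᵁ U) ⊗[Γ(X, U)] Γ(F, U) →ₗ[Γ(X, U)]
      PP16.PM n Γ(S, V) Γ(X, U) Γ(F, U) :=
    TensorProduct.map (rhoB f hU hV hUV halg n) LinearMap.id
  -- `T'` is semilinear for the left structures
  have hT' : ∀ (c : Γ(PrinPart.nbhd f n, PrinPart.pr1 f n ⁻¹ᵁ U))
      (t : Γ(PrinPart.nbhd f n, PrinPart.pr1 f n ⁻¹ᵁ U) ⊗[Γ(X, U)] Γ(F, U)),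
      T' (c • t) = (thetaEquiv f hU hV hUV halg n).symm c • T' t := by
    intro c t
    induction t using TensorProduct.induction_on with
    | zero => rw [smul_zero, map_zero, smul_zero]
    | add x y hx hy => rw [smul_add, map_add, hx, hy, map_add, smul_add]
    | tmul c' m =>
      rw [TensorProduct.smul_tmul', TensorProduct.map_tmul, TensorProduct.map_tmul,
        TensorProduct.smul_tmul', smul_eq_mul, rhoB_apply, rhoB_apply, map_mul]
      rfl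
  let l₁ : Γ((Scheme.Modules.pullback (PrinPart.pr2 f n)).obj F, PrinPart.pr1 f n ⁻¹ᵁ U) →+
      Γ(G, U) :=
    u₀.comp (T'.toAddMonoidHom.comp pSE.toLinearMap.toAddMonoidHom)
  have hl₁ : ∀ m, l₁ m = u₀ (T' (pSE m)) := fun m => rfl
  have hlin : ∀ (b : Γ(X, U))
      (m' : Γ((Scheme.Modules.pullback (PrinPart.pr2 f n)).obj F, PrinPart.pr1 f n ⁻¹ᵁ U)),
      l₁ (((PrinPart.pr1 f n).app U).hom b • m') = b • l₁ m' := by
    intro b m'
    rw [hl₁, hl₁, map_smul, hT', thetaEquiv_symm_pr1, hu₀]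
  have hval : ∀ m : Γ(F, U), l₁ (res ((Scheme.Modules.pullback (PrinPart.pr2 f n)).obj F)
      (PrinPart.preimage_pr1 f n U).le (pullSect (PrinPart.pr2 f n) F U m)) =
        u₀ (PP16.dM n Γ(S, V) Γ(X, U) Γ(F, U) m) := by
    intro m
    have key := Groth.Agent.Helper19.PullUnit.pullbackSectionsEquiv_pullSect (PrinPart.pr2 f n) F
      hΩ hU (PrinPart.preimage_pr1 f n U).le m
    rw [hl₁]
    refine (congrArg (fun z => u₀ (T' z)) key).trans ?_
    change u₀ (T' ((1 : Γ(PrinPart.nbhd f n, PrinPart.pr1 f n ⁻¹ᵁ U)) ⊗ₜ[Γ(X, U)] m)) = _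
    rw [TensorProduct.map_tmul, rhoB_apply, map_one]
    rfl
  exact ⟨l₁, fun b m => hlin b m, fun m => hval m⟩

end AffineMod

section AffineModTop

variable {X S : Scheme.{u}} (f : X ⟶ S) [IsAffine X] {V : S.Opens} (hV : IsAffineOpen V)
  (hXV : (⊤ : X.Opens) ≤ f ⁻¹ᵁ V)
  [Algebra Γ(S, V) Γ(X, ⊤)] (halg : algebraMap Γ(S, V) Γ(X, ⊤) = (f.appLE V ⊤ hXV).hom)
  (n : ℕ)

include hV halg in
/-- On an affine scheme, a left-linear additive map out of the ring-level `P^n(M)` induces a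
morphism out of `P^n(F)`. -/
theorem exists_hom_PMod_of_factor (F G : X.Modules) [F.IsQuasicoherent]
    (u₀ : PP16.PM n Γ(S, V) Γ(X, ⊤) Γ(F, ⊤) →+ Γ(G, ⊤))
    (hu₀ : ∀ (b : Γ(X, ⊤)) (t : PP16.PM n Γ(S, V) Γ(X, ⊤) Γ(F, ⊤)),
      u₀ (algebraMap Γ(X, ⊤) (PP16.P n Γ(S, V) Γ(X, ⊤)) b • t) = b • u₀ t) :
    ∃ u : PrinPart.PMod f n F ⟶ G, ∀ m : Γ(F, ⊤),
      u.app ⊤ (PrinPart.dP f n F ⊤ m) = u₀ (PP16.dM n Γ(S, V) Γ(X, ⊤) Γ(F, ⊤) m) := by
  obtain ⟨l, hl, hval⟩ := exists_addHom_PMod f (isAffineOpen_top X) hV hXV halg n F G u₀ hu₀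
  haveI : (PrinPart.PMod f n F).IsQuasicoherent := isQuasicoherent_PMod f n F
  obtain ⟨u, hu⟩ := TildeHom.exists_hom_of_top_affine (PrinPart.PMod f n F) G l hl
  exact ⟨u, fun m => (hu _).trans (hval m)⟩

end AffineModTop

end Groth.Agent.Lib.Helper2.PrinPartB
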