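import Mathlib
import Groth.Agent.Lib.Helper2.PrinPart.Box

/-! # Products of `n + 1` sections of the augmentation ideal of `O_{Δ^(n)}` vanish -/

set_option autoImplicit false
universe u
open CategoryTheory CategoryTheory.Limits AlgebraicGeometry TopologicalSpace Opposite

namespace Groth.Agent.Lib.Helper2.PrinPartB

section AbstractAug

variable {Y D P : Scheme.{u}} (s : Y ⟶ D) (ι : D ⟶ P) (i : Y ⟶ P) (hs : s ≫ ι = i)

include hs in
theorem prod_eq_zero_of_aug_abstract [IsClosedImmersion ι] (n : ℕ) (T : P.affineOpens)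
    (Ω : D.Opens) (hΩ : Ω = ι ⁻¹ᵁ T.1) (U : Y.Opens) (hU' : U = i ⁻¹ᵁ T.1)
    (e : U ≤ s ⁻¹ᵁ Ω)
    (hker : RingHom.ker (ι.appLE T.1 Ω hΩ.le).hom =
      (RingHom.ker (i.appLE T.1 U hU'.le).hom) ^ (n + 1))
    (x : Fin (n + 1) → Γ(D, Ω)) (hx : ∀ j, (s.appLE Ω U e).hom (x j) = 0) :
    ∏ j, x j = 0 := by
  have hsurj := appLE_surjective_of_eq ι T _ hΩ
  choose w hw using fun j => hsurj (x j)
  have hw' : ∀ j, (ι.appLE T.1 Ω hΩ.le).hom (w j) = x j := hw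
  have hcomp : ι.appLE T.1 Ω hΩ.le ≫ s.appLE Ω U e = i.appLE T.1 U hU'.le := by
    rw [Scheme.Hom.appLE_comp_appLE]
    exact appLE_of_eq hs _ _ _ _
  have hwk : ∀ j, w j ∈ RingHom.ker (i.appLE T.1 U hU'.le).hom := by
    intro j
    rw [RingHom.mem_ker, ← hcomp, CommRingCat.hom_comp, RingHom.comp_apply, hw']
    exact hx j
  have hprod : ∏ j, w j ∈ RingHom.ker (ι.appLE T.1 Ω hΩ.le).hom := by
    rw [hker]
    have := Ideal.prod_mem_prod (s := Finset.univ) (x := w)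
      (I := fun _ => RingHom.ker (i.appLE T.1 U hU'.le).hom) (fun j _ => hwk j)
    rw [Finset.prod_const, Finset.card_univ, Fintype.card_fin] at this
    exact this
  rw [RingHom.mem_ker, map_prod] at hprod
  rw [← hprod]
  exact Finset.prod_congr rfl fun j _ => (hw' j).symm

end AbstractAug

section Aug

variable {X S : Scheme.{u}} (f : X ⟶ S)

theorem eq_diagCl_preimage_boxW (U : X.Opens) :
    U = PrinPart.diagCl f ⁻¹ᵁ (boxW f (U := U)) := by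
  have h0 : PrinPart.diagCl f ⁻¹ᵁ (boxW f (U := U)) =
      (PrinPart.diagCl f ≫ (pullback.diagonal f).coborderRange.ι) ⁻¹ᵁ
        OmegaSh.diagNbhd f U := rfl
  rw [h0, Scheme.Hom.liftCoborder_ι, diagonal_preimage_box]

theorem le_toNbhd_pr1 (n : ℕ) (U : X.Opens) :
    U ≤ PrinPart.toNbhd f n ⁻¹ᵁ (PrinPart.pr1 f n ⁻¹ᵁ U) := fun y hy => by
  change PrinPart.pr1 f n (PrinPart.toNbhd f n y) ∈ U
  rw [pr1_toNbhd_apply]; exact hy

variable {U : X.Opens} {V : S.Opens}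
  (hU : IsAffineOpen U) (hV : IsAffineOpen V) (hUV : U ≤ f ⁻¹ᵁ V)

include hU hV hUV in
theorem ker_infNbhdι_appLE_boxW (n : ℕ) (hΩ : PrinPart.pr1 f n ⁻¹ᵁ U =
      PrinPart.infNbhdι (PrinPart.diagCl f) n ⁻¹ᵁ (boxW f (U := U)))
    (hU' : U = PrinPart.diagCl f ⁻¹ᵁ (boxW f (U := U))) :
    RingHom.ker ((PrinPart.infNbhdι (PrinPart.diagCl f) n).appLE (boxW f (U := U))
        (PrinPart.pr1 f n ⁻¹ᵁ U) hΩ.le).hom =
      (RingHom.ker ((PrinPart.diagCl f).appLE (boxW f (U := U)) U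
        hU'.le).hom) ^ (n + 1) := by
  rw [ker_appLE_of_eq _ _ _ hΩ,
    ker_appLE_of_eq _ _ _ hU']
  have h4 := Scheme.IdealSheafData.ker_subschemeι_app ((PrinPart.diagCl f).ker ^ (n + 1))
    ⟨boxW f (U := U), isAffineOpen_boxW f hU hV hUV⟩
  rw [Scheme.IdealSheafData.ideal_pow] at h4
  have h5 := Scheme.Hom.ker_apply (PrinPart.diagCl f)
    ⟨boxW f (U := U), isAffineOpen_boxW f hU hV hUV⟩
  change _ = (RingHom.ker ((PrinPart.diagCl f).app (boxW f (U := U))).hom) ^ (n + 1)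
  rw [← h5]
  exact h4

include hU hV hUV in
/-- affine box case -/
theorem prod_eq_zero_of_aug_box (n : ℕ)
    (x : Fin (n + 1) → Γ(PrinPart.nbhd f n, PrinPart.pr1 f n ⁻¹ᵁ U))
    (e : U ≤ PrinPart.toNbhd f n ⁻¹ᵁ (PrinPart.pr1 f n ⁻¹ᵁ U))
    (hx : ∀ j, ((PrinPart.toNbhd f n).appLE (PrinPart.pr1 f n ⁻¹ᵁ U) U e).hom (x j) = 0) :
    ∏ j, x j = 0 :=
  prod_eq_zero_of_aug_abstract (PrinPart.toNbhd f n) (PrinPart.infNbhdι (PrinPart.diagCl f) n)
    (PrinPart.diagCl f) (PrinPart.toInfNbhd_ι (PrinPart.diagCl f) n) n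
    ⟨boxW f (U := U), isAffineOpen_boxW f hU hV hUV⟩ _ (pr1_preimage_eq f n U) U
    (eq_diagCl_preimage_boxW f U) e
    (ker_infNbhdι_appLE_boxW f hU hV hUV n (pr1_preimage_eq f n U) (eq_diagCl_preimage_boxW f U))
    x hx

omit hU hV hUV in
/-- general case -/
theorem prod_eq_zero_of_aug (n : ℕ) (U : X.Opens)
    (x : Fin (n + 1) → Γ(PrinPart.nbhd f n, PrinPart.pr1 f n ⁻¹ᵁ U))
    (e : U ≤ PrinPart.toNbhd f n ⁻¹ᵁ (PrinPart.pr1 f n ⁻¹ᵁ U))
    (hx : ∀ j, ((PrinPart.toNbhd f n).appLE (PrinPart.pr1 f n ⁻¹ᵁ U) U e).hom (x j) = 0) :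
    ∏ j, x j = 0 := by
  apply TopCat.Presheaf.section_ext (PrinPart.nbhd f n).sheaf
  intro z hz
  obtain ⟨V, hV, hxV, -⟩ := exists_isAffineOpen_mem_and_subset
    (x := f (PrinPart.pr1 f n z)) (U := ⊤) trivial
  obtain ⟨U', hU', hzU', hU'le⟩ := exists_isAffineOpen_mem_and_subset (x := PrinPart.pr1 f n z)
    (U := U ⊓ f ⁻¹ᵁ V) ⟨hz, hxV⟩
  have hU'U : U' ≤ U := hU'le.trans inf_le_left
  have hU'V : U' ≤ f ⁻¹ᵁ V := hU'le.trans inf_le_right
  have hΩ : PrinPart.pr1 f n ⁻¹ᵁ U' ≤ PrinPart.pr1 f n ⁻¹ᵁ U :=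
    (PrinPart.pr1 f n).preimage_mono hU'U
  have hz' : z ∈ PrinPart.pr1 f n ⁻¹ᵁ U' := hzU'
  have key := prod_eq_zero_of_aug_box f hU' hV hU'V n
    (fun j => (PrinPart.nbhd f n).presheaf.map (homOfLE hΩ).op (x j)) (le_toNbhd_pr1 f n U') ?_
  · have e1 := ((PrinPart.nbhd f n).presheaf.germ_res_apply (homOfLE hΩ) z hz' (∏ j, x j)).symm
    have e2 := ((PrinPart.nbhd f n).presheaf.germ_res_apply (homOfLE hΩ) z hz' 0).symm
    refine e1.trans (Eq.trans ?_ e2.symm)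
    congr 1
    rw [map_prod, map_zero]
    exact key
  · intro j
    have h1 : (PrinPart.nbhd f n).presheaf.map (homOfLE hΩ).op ≫
        (PrinPart.toNbhd f n).appLE (PrinPart.pr1 f n ⁻¹ᵁ U') U' (le_toNbhd_pr1 f n U') =
        (PrinPart.toNbhd f n).appLE (PrinPart.pr1 f n ⁻¹ᵁ U) U e ≫
          X.presheaf.map (homOfLE hU'U).op := by
      rw [Scheme.Hom.map_appLE, Scheme.Hom.appLE_map]
    have h2 := congrArg (fun φ => φ.hom (x j)) h1
    simp only [CommRingCat.hom_comp, RingHom.comp_apply] at h2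
    refine h2.trans ?_
    rw [hx j, map_zero]

end Aug

end Groth.Agent.Lib.Helper2.PrinPartB
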