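import Mathlib
import Groth.Agent.Lib.Helper2.PrinPart.Aug
import Groth.Agent.Lib.Helper2.PrinPart.Affine

/-! # Relations among `d^n` of products (order one) and of functions from the base -/

set_option autoImplicit false
universe u
open CategoryTheory CategoryTheory.Limits AlgebraicGeometry TopologicalSpace Opposite

namespace Groth.Agent.Lib.Helper2.PrinPartB

section Rel

variable {X S : Scheme.{u}} (f : X ⟶ S)

omit f in
theorem appLE_retr {X N : Scheme.{u}} (s : X ⟶ N) (p : N ⟶ X) (h : s ≫ p = 𝟙 X) (U : X.Opens)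
    (Ω : N.Opens) (e1 : Ω ≤ p ⁻¹ᵁ U) (e2 : U ≤ s ⁻¹ᵁ Ω) (a : Γ(X, U)) :
    (s.appLE Ω U e2).hom ((p.appLE U Ω e1).hom a) = a := by
  have h' : p.appLE U Ω e1 ≫ s.appLE Ω U e2 = 𝟙 _ := by
    rw [Scheme.Hom.appLE_comp_appLE]
    exact OmegaSh.id_appLE_eq_id h _
  exact congrArg (fun φ => φ.hom a) h'

theorem aug_pr1 (n : ℕ) (U : X.Opens) (a : Γ(X, U)) :
    ((PrinPart.toNbhd f n).appLE (PrinPart.pr1 f n ⁻¹ᵁ U) U (le_toNbhd_pr1 f n U)).hom
      (((PrinPart.pr1 f n).app U).hom a) = a := by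
  rw [Scheme.Hom.app_eq_appLE]
  exact appLE_retr _ _ (PrinPart.toNbhd_pr1 f n) U _ _ _ a

theorem aug_pr2 (n : ℕ) (U : X.Opens) (a : Γ(X, U)) :
    ((PrinPart.toNbhd f n).appLE (PrinPart.pr1 f n ⁻¹ᵁ U) U (le_toNbhd_pr1 f n U)).hom
      (((PrinPart.pr2 f n).appLE U (PrinPart.pr1 f n ⁻¹ᵁ U)
        (PrinPart.preimage_pr1 f n U).le).hom a) = a :=
  appLE_retr _ _ (PrinPart.toNbhd_pr2 f n) U _ _ _ a

theorem secE_dn_one (n : ℕ) (U : X.Opens) : secE f n U (PrinPart.dn f n U 1) = 1 := by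
  rw [secE_dn, map_one]

/-- `d^1 (ab) = a d^1 b + b d^1 a - ab d^1 1`. -/
theorem dn_mul_rel (U : X.Opens) (a b : Γ(X, U)) :
    PrinPart.dn f 1 U (a * b) =
      a • PrinPart.dn f 1 U b + b • PrinPart.dn f 1 U a - (a * b) • PrinPart.dn f 1 U 1 := by
  apply (secE_bijective f 1 U).1
  rw [map_sub, map_add, secE_smul, secE_smul, secE_smul, secE_dn, secE_dn, secE_dn, secE_dn_one,
    map_mul, map_mul]
  have key := prod_eq_zero_of_aug f 1 U
    (fun j : Fin 2 => if j = 0 then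
      ((PrinPart.pr2 f 1).appLE U (PrinPart.pr1 f 1 ⁻¹ᵁ U)
        (PrinPart.preimage_pr1 f 1 U).le).hom a - ((PrinPart.pr1 f 1).app U).hom a
      else ((PrinPart.pr2 f 1).appLE U (PrinPart.pr1 f 1 ⁻¹ᵁ U)
        (PrinPart.preimage_pr1 f 1 U).le).hom b - ((PrinPart.pr1 f 1).app U).hom b)
    (le_toNbhd_pr1 f 1 U) (fun j => by
      by_cases hj : j = 0
      · simp only [hj, if_true]
        rw [map_sub, aug_pr1, aug_pr2, sub_self]
      · simp only [hj, if_false]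
        rw [map_sub, aug_pr1, aug_pr2, sub_self])
  rw [Fin.prod_univ_two] at key
  simp only [if_true, Fin.reduceEq, if_false] at key
  linear_combination key

/-- `d^n (f♯ c) = f♯ c • d^n 1`. -/
theorem dn_app_rel (n : ℕ) (V : S.Opens) (c : Γ(S, V)) :
    PrinPart.dn f n (f ⁻¹ᵁ V) ((f.app V).hom c) =
      ((f.app V).hom c) • PrinPart.dn f n (f ⁻¹ᵁ V) 1 := by
  apply (secE_bijective f n (f ⁻¹ᵁ V)).1
  rw [secE_smul, secE_dn, secE_dn_one, mul_one]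
  have h1 : f.app V ≫ (PrinPart.pr2 f n).appLE (f ⁻¹ᵁ V) (PrinPart.pr1 f n ⁻¹ᵁ (f ⁻¹ᵁ V))
        (PrinPart.preimage_pr1 f n (f ⁻¹ᵁ V)).le =
      f.app V ≫ (PrinPart.pr1 f n).app (f ⁻¹ᵁ V) := by
    rw [Scheme.Hom.app_eq_appLE, Scheme.Hom.app_eq_appLE, Scheme.Hom.appLE_comp_appLE,
      Scheme.Hom.appLE_comp_appLE]
    exact (appLE_of_eq (PrinPart.pr1_comp f n) _ _ _ _).symm
  exact congrArg (fun φ => φ.hom c) h1

end Rel

end Groth.Agent.Lib.Helper2.PrinPartB
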