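import Mathlib
import Groth.Agent.Lib.Helper2.PrinPart.Rel
import Groth.Agent.Lib.Helper2.TildeHom
import Groth.Agent.Lib.Helper29.QCohIdealMod

/-! # Maps out of `P^n` on an affine scheme from maps out of `B ⊗[A] B` -/

set_option autoImplicit false
universe u
open CategoryTheory CategoryTheory.Limits AlgebraicGeometry TopologicalSpace Opposite
open TensorProduct

namespace Groth.Agent.Lib.Helper2.PrinPartB

section DerAffine

variable (A B : Type u) [CommRing A] [CommRing B] [Algebra A B]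

theorem thetaHom_left (n : ℕ) (b : B) : (thetaHom A B n).hom (b ⊗ₜ[A] (1 : B)) =
    ((PrinPart.pr1 (specF A B) n).app ⊤).hom ((Scheme.ΓSpecIso (CommRingCat.of B)).inv.hom b) := by
  rw [thetaHom_tmul, map_one, map_one, mul_one]

theorem thetaHom_right (n : ℕ) (b : B) : (thetaHom A B n).hom ((1 : B) ⊗ₜ[A] b) =
    ((PrinPart.pr2 (specF A B) n).appLE ⊤ (PrinPart.pr1 (specF A B) n ⁻¹ᵁ ⊤)
      (PrinPart.preimage_pr1 (specF A B) n ⊤).le).hom
        ((Scheme.ΓSpecIso (CommRingCat.of B)).inv.hom b) := by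
  rw [thetaHom_tmul, map_one, map_one, one_mul]

/-- A morphism out of `P^n` on `Spec B` from an additive map out of `B ⊗[A] B` which is linear for
the left structure and kills `I^(n+1)`. -/
theorem exists_hom_P_of_addHom (n : ℕ) (G : (Spec (CommRingCat.of B)).Modules)
    (l₀ : B ⊗[A] B →+ Γ(G, ⊤))
    (hlin : ∀ (b : B) (w : B ⊗[A] B), l₀ ((b ⊗ₜ[A] (1 : B)) * w) =
      (Scheme.ΓSpecIso (CommRingCat.of B)).inv.hom b • l₀ w)
    (hker : ∀ w ∈ KaehlerDifferential.ideal A B ^ (n + 1), l₀ w = 0) :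
    ∃ u : PrinPart.P (specF A B) n ⟶ G,
      ∀ (w : B ⊗[A] B) (m : Γ(PrinPart.P (specF A B) n, ⊤)),
        secE (specF A B) n ⊤ m = (thetaHom A B n).hom w → u.app ⊤ m = l₀ w := by
  let σ := Function.surjInv (thetaHom_surjective A B n)
  have hσ : ∀ c, (thetaHom A B n).hom (σ c) = c := Function.surjInv_eq _
  have key : ∀ (w : B ⊗[A] B) (m : Γ(PrinPart.P (specF A B) n, ⊤)),
      secE (specF A B) n ⊤ m = (thetaHom A B n).hom w →
        l₀ (σ (secE (specF A B) n ⊤ m)) = l₀ w := by
    intro w m hm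
    have h1 : σ (secE (specF A B) n ⊤ m) - w ∈ KaehlerDifferential.ideal A B ^ (n + 1) := by
      rw [← ker_thetaHom A B n, RingHom.mem_ker, map_sub, hσ, hm, sub_self]
    have h2 := hker _ h1
    rw [map_sub, sub_eq_zero] at h2
    exact h2
  let l : Γ(PrinPart.P (specF A B) n, ⊤) →+ Γ(G, ⊤) :=
    { toFun := fun m => l₀ (σ (secE (specF A B) n ⊤ m))
      map_zero' := by
        rw [key 0 0 (by rw [map_zero, map_zero]), map_zero]
      map_add' := fun m m' => by
        rw [key (σ (secE (specF A B) n ⊤ m) + σ (secE (specF A B) n ⊤ m')) (m + m')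
          (by rw [map_add, map_add, hσ, hσ]), map_add] }
  have hl : ∀ m, l m = l₀ (σ (secE (specF A B) n ⊤ m)) := fun m => rfl
  haveI : (Coh.structureModule (Spec (CommRingCat.of B))).IsQuasicoherent :=
    Groth.Agent.Lib.Helper29.QCoh.isQuasicoherent_unitM _
  haveI : (PrinPart.P (specF A B) n).IsQuasicoherent := isQuasicoherent_PMod _ _ _
  obtain ⟨u, hu⟩ := TildeHom.exists_hom_of_top (R := CommRingCat.of B)
    (PrinPart.P (specF A B) n) G l (fun c m => by
      obtain ⟨b, rfl⟩ := (ConcreteCategory.bijective_of_isIso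
        (Scheme.ΓSpecIso (CommRingCat.of B)).inv).2 c
      rw [hl, hl, ← hlin]
      apply key
      rw [secE_smul, map_mul, hσ, thetaHom_left])
  refine ⟨u, fun w m hm => ?_⟩
  rw [hu, hl]
  exact key w m hm

theorem tensorProductTo_eq_zero_of_mem_sq {L : Type u} [AddCommGroup L] [Module B L] [Module A L]
    [IsScalarTower A B L] (δ : Derivation A B L) (x : B ⊗[A] B)
    (hx : x ∈ KaehlerDifferential.ideal A B ^ (1 + 1)) : δ.tensorProductTo x = 0 := by
  rw [pow_succ, pow_one] at hx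
  refine Submodule.mul_induction_on hx (fun x hx y hy => ?_) (fun x y hx hy => ?_)
  · have h1 : Algebra.TensorProduct.lmul' (S := B) A x = 0 := hx
    have h2 : Algebra.TensorProduct.lmul' (S := B) A y = 0 := hy
    rw [Derivation.tensorProductTo_mul, h1, h2, zero_smul, zero_smul, add_zero]
  · rw [map_add, hx, hy, add_zero]

end DerAffine

section DerOfHom

variable {X S : Scheme.{u}} (f : X ⟶ S) (G : X.Modules) (u : PrinPart.P f 1 ⟶ G)

theorem dn_map (n : ℕ) {U V : X.Opens} (e : V ≤ U) (a : Γ(X, U)) :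
    PrinPart.dn f n V (X.presheaf.map (homOfLE e).op a) =
      (PrinPart.P f n).presheaf.map (homOfLE e).op (PrinPart.dn f n U a) :=
  PrinPart.dP_map f n _ e (OmegaSh.strSect X U a)

variable {f G} in
theorem app_dn_one_eq_zero (h : u.app ⊤ (PrinPart.dn f 1 ⊤ 1) = 0) (U : X.Opens) :
    u.app U (PrinPart.dn f 1 U 1) = 0 := by
  have h1 := dn_map f 1 (le_top : U ≤ ⊤) 1
  rw [map_one] at h1
  rw [h1, app_res', h, map_zero]

/-- A morphism `u : P^1 ⟶ G` killing `d^1 1` induces a derivation `u ∘ d^1`. -/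
noncomputable def derOfHom (h : u.app ⊤ (PrinPart.dn f 1 ⊤ 1) = 0) : OmegaSh.Der f G where
  d := fun {W} => (u.app W.unop).hom.comp (PrinPart.dn f 1 W.unop)
  d_mul := fun {W} a b => by
    change u.app W.unop (PrinPart.dn f 1 W.unop (a * b)) =
      (show Γ(X, W.unop) from a) • u.app W.unop (PrinPart.dn f 1 W.unop b) +
        (show Γ(X, W.unop) from b) • u.app W.unop (PrinPart.dn f 1 W.unop a)
    rw [dn_mul_rel, map_sub, map_add, Scheme.Modules.Hom.app_smul, Scheme.Modules.Hom.app_smul,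
      Scheme.Modules.Hom.app_smul, app_dn_one_eq_zero u h, smul_zero, sub_zero]
  d_map := fun {W W'} i a => by
    change u.app W'.unop (PrinPart.dn f 1 W'.unop (X.presheaf.map i a)) =
      G.presheaf.map i (u.app W.unop (PrinPart.dn f 1 W.unop a))
    have hi : i = (homOfLE i.unop.le).op := Subsingleton.elim _ _
    rw [hi, dn_map, app_res']
  d_app := fun {V} c => by
    change u.app (f ⁻¹ᵁ V.unop) (PrinPart.dn f 1 (f ⁻¹ᵁ V.unop) ((f.app V.unop).hom c)) = 0
    rw [dn_app_rel, Scheme.Modules.Hom.app_smul, app_dn_one_eq_zero u h, smul_zero]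

theorem derOfHom_app (h : u.app ⊤ (PrinPart.dn f 1 ⊤ 1) = 0) (U : X.Opens) (a : Γ(X, U)) :
    (derOfHom f G u h).app U a = u.app U (PrinPart.dn f 1 U a) := rfl

end DerOfHom

end Groth.Agent.Lib.Helper2.PrinPartB
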