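import Mathlib
import Groth.Agent.Lib.Helper2.PrinPart.DerAffine
import Groth.Agent.Lib.Helper29.QCohExact

/-! # Derivations on an affine scheme are determined by their global values -/

set_option autoImplicit false
universe u
open CategoryTheory CategoryTheory.Limits AlgebraicGeometry TopologicalSpace Opposite
open Groth.Agent.Lib.Helper29.QCoh

namespace Groth.Agent.Lib.Helper2.PrinPartB

section DerExt

variable {X S : Scheme.{u}} (f : X ⟶ S) (F : X.Modules)

theorem der_map (D : OmegaSh.Der f F) {U V : X.Opens} (e : V ≤ U) (a : Γ(X, U)) :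
    D.app V (X.presheaf.map (homOfLE e).op a) = F.presheaf.map (homOfLE e).op (D.app U a) :=
  D.d_map (homOfLE e).op a

theorem der_mul (D : OmegaSh.Der f F) {U : X.Opens} (a b : Γ(X, U)) :
    D.app U (a * b) = a • D.app U b + b • D.app U a :=
  D.d_mul (X := op U) a b

theorem der_ext_of_top [IsAffine X] (D D' : OmegaSh.Der f F)
    (h : ∀ a : Γ(X, ⊤), D.app ⊤ a = D'.app ⊤ a) : D = D' := by
  have hbasic : ∀ (g : Γ(X, ⊤)) (s : Γ(X, X.basicOpen g)),
      D.app (X.basicOpen g) s = D'.app (X.basicOpen g) s := by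
    intro g s
    haveI := IsAffineOpen.isLocalization_basicOpen (isAffineOpen_top X) g
    obtain ⟨⟨a, ⟨_, k, rfl⟩⟩, hs⟩ := IsLocalization.surj (Submonoid.powers g) s
    have hs' : s * (X.presheaf.map (homOfLE (X.basicOpen_le g)).op).hom (g ^ k) =
        (X.presheaf.map (homOfLE (X.basicOpen_le g)).op).hom a := hs
    have hu : IsUnit ((X.presheaf.map (homOfLE (X.basicOpen_le g)).op).hom (g ^ k)) :=
      IsLocalization.map_units (M := Submonoid.powers g) Γ(X, X.basicOpen g) ⟨g ^ k, k, rfl⟩
    have e1 : ∀ D₀ : OmegaSh.Der f F,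
        (X.presheaf.map (homOfLE (X.basicOpen_le g)).op).hom (g ^ k) • D₀.app (X.basicOpen g) s =
        F.presheaf.map (homOfLE (X.basicOpen_le g)).op (D₀.app ⊤ a) -
          s • F.presheaf.map (homOfLE (X.basicOpen_le g)).op (D₀.app ⊤ (g ^ k)) := by
      intro D₀
      have h1 := congrArg (D₀.app (X.basicOpen g)) hs'
      rw [der_mul] at h1
      have h2 := der_map f F D₀ (X.basicOpen_le g) a
      have h3 := der_map f F D₀ (X.basicOpen_le g) (g ^ k)
      rw [← h2, ← h3]
      rw [eq_sub_iff_add_eq, add_comm]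
      exact h1
    apply (hu.smul_left_cancel).1
    rw [e1 D, e1 D', h, h]
  apply PresheafOfModules.Derivation.ext
  funext W
  ext s
  change D.app W.unop s = D'.app W.unop s
  apply section_ext F
  intro x hx
  obtain ⟨_, ⟨g, rfl⟩, hxg, hgW'⟩ := Opens.isBasis_iff_nbhd.1 (isBasis_basicOpen X) hx
  rw [← germ_res F hgW' x hxg, ← germ_res F hgW' x hxg]
  congr 1
  change F.presheaf.map (homOfLE hgW').op _ = F.presheaf.map (homOfLE hgW').op _
  rw [← der_map, ← der_map, hbasic]

end DerExt

end Groth.Agent.Lib.Helper2.PrinPartB
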