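import Mathlib
import Groth.Agent.Lib.Helper2.PrinPart.AffineU
import Groth.Agent.Lib.Helper2.PrinPart.DerAffine
import Groth.Agent.Lib.Helper2.PrinPart.DerExt

/-! # Linear maps out of the sections of `P^n` over an affine box -/

set_option autoImplicit false
universe u
open CategoryTheory CategoryTheory.Limits AlgebraicGeometry TopologicalSpace Opposite
open TensorProduct

namespace Groth.Agent.Lib.Helper2.PrinPartB

section LocalHom

variable {X S : Scheme.{u}} (f : X ⟶ S) {U : X.Opens} {V : S.Opens}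
  (hU : IsAffineOpen U) (hV : IsAffineOpen V) (hUV : U ≤ f ⁻¹ᵁ V)
  [Algebra Γ(S, V) Γ(X, U)] (halg : algebraMap Γ(S, V) Γ(X, U) = (f.appLE V U hUV).hom)
  (n : ℕ)

theorem thetaHomU_left (b : Γ(X, U)) :
    (thetaHomU f hU hV hUV halg n).hom (b ⊗ₜ[Γ(S, V)] (1 : Γ(X, U))) =
      ((PrinPart.pr1 f n).app U).hom b := by
  rw [thetaHomU_tmul, map_one, mul_one]

theorem thetaHomU_right (b : Γ(X, U)) :
    (thetaHomU f hU hV hUV halg n).hom ((1 : Γ(X, U)) ⊗ₜ[Γ(S, V)] b) =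
      ((PrinPart.pr2 f n).appLE U (PrinPart.pr1 f n ⁻¹ᵁ U)
        (PrinPart.preimage_pr1 f n U).le).hom b := by
  rw [thetaHomU_tmul, map_one, one_mul]

include hU hV hUV halg in
/-- A linear map out of `Γ(P^n, U)` from an additive map out of `B ⊗[A] B` which is linear for
the left structure and kills `I^(n+1)`. -/
theorem exists_linearMap_P_of_addHom (G : X.Modules)
    (l₀ : Γ(X, U) ⊗[Γ(S, V)] Γ(X, U) →+ Γ(G, U))
    (hlin : ∀ (b : Γ(X, U)) (w : Γ(X, U) ⊗[Γ(S, V)] Γ(X, U)),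
      l₀ ((b ⊗ₜ[Γ(S, V)] (1 : Γ(X, U))) * w) = b • l₀ w)
    (hker : ∀ w ∈ KaehlerDifferential.ideal Γ(S, V) Γ(X, U) ^ (n + 1), l₀ w = 0) :
    ∃ l : Γ(PrinPart.P f n, U) →ₗ[Γ(X, U)] Γ(G, U),
      ∀ (w : Γ(X, U) ⊗[Γ(S, V)] Γ(X, U)) (m : Γ(PrinPart.P f n, U)),
        secE f n U m = (thetaHomU f hU hV hUV halg n).hom w → l m = l₀ w := by
  let σ := Function.surjInv (thetaHomU_surjective f hU hV hUV halg n)
  have hσ : ∀ c, (thetaHomU f hU hV hUV halg n).hom (σ c) = c := Function.surjInv_eq _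
  have key : ∀ (w : Γ(X, U) ⊗[Γ(S, V)] Γ(X, U)) (m : Γ(PrinPart.P f n, U)),
      secE f n U m = (thetaHomU f hU hV hUV halg n).hom w →
        l₀ (σ (secE f n U m)) = l₀ w := by
    intro w m hm
    have h1 : σ (secE f n U m) - w ∈ KaehlerDifferential.ideal Γ(S, V) Γ(X, U) ^ (n + 1) := by
      rw [← ker_thetaHomU f hU hV hUV halg n, RingHom.mem_ker, map_sub, hσ, hm, sub_self]
    have h2 := hker _ h1
    rw [map_sub, sub_eq_zero] at h2
    exact h2
  let l : Γ(PrinPart.P f n, U) →ₗ[Γ(X, U)] Γ(G, U) :=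
    { toFun := fun m => l₀ (σ (secE f n U m))
      map_add' := fun m m' => by
        rw [key (σ (secE f n U m) + σ (secE f n U m')) (m + m')
          (by rw [map_add, map_add, hσ, hσ]), map_add]
      map_smul' := fun b m => by
        rw [RingHom.id_apply, ← hlin]
        apply key
        rw [secE_smul, map_mul, hσ, thetaHomU_left] }
  exact ⟨l, fun w m hm => key w m hm⟩

omit [Algebra Γ(S, V) Γ(X, U)] in
include hU hV hUV in
/-- `Γ(P^n, U)` is spanned over `Γ(X, U)` by the image of `d^n`. -/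
theorem span_range_dn_eq_top :
    Submodule.span Γ(X, U) (Set.range (PrinPart.dn f n U)) = ⊤ := by
  rw [eq_top_iff]
  rintro m -
  obtain ⟨Q, hQ⟩ := exists_sum_pr1_pr2 f hU hV hUV n (secE f n U m)
  have h1 : m = ∑ q ∈ Q, q.1 • PrinPart.dn f n U q.2 := by
    apply (secE_bijective f n U).1
    rw [hQ, map_sum]
    refine Finset.sum_congr rfl fun q _ => ?_
    rw [secE_smul, secE_dn]
  rw [h1]
  exact Submodule.sum_mem _ fun q _ => Submodule.smul_mem _ _ (Submodule.subset_span ⟨q.2, rfl⟩)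

omit [Algebra Γ(S, V) Γ(X, U)] in
theorem der_appLE_eq_zero (G : X.Modules) (d : OmegaSh.Der f G) (a : Γ(S, V)) :
    d.app U ((f.appLE V U hUV).hom a) = 0 := by
  have h1 : (f.appLE V U hUV).hom a =
      (X.presheaf.map (homOfLE hUV).op).hom ((f.app V).hom a) := rfl
  rw [h1, der_map]
  have h2 : d.app (f ⁻¹ᵁ V) ((f.app V).hom a) = 0 := d.d_app (X := op V) a
  rw [h2, map_zero]

omit [Algebra Γ(S, V) Γ(X, U)] in
include hU hV hUV in
/-- A derivation gives, over an affine box, a linear map out of `Γ(P^1, U)` with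
`l (d^1 b) = d b`. -/
theorem exists_linearMap_of_der (G : X.Modules) (d : OmegaSh.Der f G) :
    ∃ l : Γ(PrinPart.P f 1, U) →ₗ[Γ(X, U)] Γ(G, U),
      ∀ b : Γ(X, U), l (PrinPart.dn f 1 U b) = d.app U b := by
  letI alg : Algebra Γ(S, V) Γ(X, U) := (f.appLE V U hUV).hom.toAlgebra
  have halg : algebraMap Γ(S, V) Γ(X, U) = (f.appLE V U hUV).hom :=
    RingHom.algebraMap_toAlgebra _
  letI : Module Γ(S, V) Γ(G, U) := Module.compHom Γ(G, U) (f.appLE V U hUV).hom
  haveI : IsScalarTower Γ(S, V) Γ(X, U) Γ(G, U) :=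
    IsScalarTower.of_algebraMap_smul fun _ _ => rfl
  let δl : Γ(X, U) →ₗ[Γ(S, V)] Γ(G, U) :=
    { toFun := fun b => d.app U b
      map_add' := fun b b' => map_add _ b b'
      map_smul' := fun a b => by
        rw [Algebra.smul_def, der_mul, halg, der_appLE_eq_zero f hUV G d a, smul_zero, add_zero]
        rfl }
  let δ : Derivation Γ(S, V) Γ(X, U) Γ(G, U) :=
    Derivation.mk' δl (fun a b => der_mul f G d a b)
  have hδ : ∀ b, δ b = d.app U b := fun b => rfl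
  obtain ⟨l, hl⟩ := exists_linearMap_P_of_addHom f hU hV hUV halg 1 G
    δ.tensorProductTo.toAddMonoidHom
    (fun b w => by
      have h1 : (b ⊗ₜ[Γ(S, V)] (1 : Γ(X, U))) * w = b • w := by
        rw [Algebra.smul_def]
        rfl
      rw [h1]
      exact map_smul δ.tensorProductTo b w)
    (fun w hw => tensorProductTo_eq_zero_of_mem_sq Γ(S, V) Γ(X, U) δ w hw)
  refine ⟨l, fun b => ?_⟩
  rw [hl ((1 : Γ(X, U)) ⊗ₜ[Γ(S, V)] b) _ (by rw [secE_dn, thetaHomU_right])]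
  change δ.tensorProductTo ((1 : Γ(X, U)) ⊗ₜ[Γ(S, V)] b) = _
  rw [Derivation.tensorProductTo_tmul, one_smul, hδ]

omit [Algebra Γ(S, V) Γ(X, U)] in
include hU hV hUV in
/-- A ring-level derivation of `Γ(X, U)` into `Γ(G, U)` over `Γ(S, V)` gives a linear map out of
`Γ(P^1, U)` with `l (d^1 b) = δ b`. -/
theorem exists_linearMap_of_ringDer (G : X.Modules) (δ₀ : Γ(X, U) →+ Γ(G, U))
    (hmul : ∀ a b : Γ(X, U), δ₀ (a * b) = a • δ₀ b + b • δ₀ a)
    (hzero : ∀ a : Γ(S, V), δ₀ ((f.appLE V U hUV).hom a) = 0) :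
    ∃ l : Γ(PrinPart.P f 1, U) →ₗ[Γ(X, U)] Γ(G, U),
      ∀ b : Γ(X, U), l (PrinPart.dn f 1 U b) = δ₀ b := by
  letI alg : Algebra Γ(S, V) Γ(X, U) := (f.appLE V U hUV).hom.toAlgebra
  have halg : algebraMap Γ(S, V) Γ(X, U) = (f.appLE V U hUV).hom :=
    RingHom.algebraMap_toAlgebra _
  letI : Module Γ(S, V) Γ(G, U) := Module.compHom Γ(G, U) (f.appLE V U hUV).hom
  haveI : IsScalarTower Γ(S, V) Γ(X, U) Γ(G, U) :=
    IsScalarTower.of_algebraMap_smul fun _ _ => rfl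
  let δl : Γ(X, U) →ₗ[Γ(S, V)] Γ(G, U) :=
    { toFun := fun b => δ₀ b
      map_add' := fun b b' => map_add _ b b'
      map_smul' := fun a b => by
        rw [Algebra.smul_def, hmul, halg, hzero a, smul_zero, add_zero]
        rfl }
  let δ : Derivation Γ(S, V) Γ(X, U) Γ(G, U) :=
    Derivation.mk' δl (fun a b => hmul a b)
  have hδ : ∀ b, δ b = δ₀ b := fun b => rfl
  obtain ⟨l, hl⟩ := exists_linearMap_P_of_addHom f hU hV hUV halg 1 G
    δ.tensorProductTo.toAddMonoidHom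
    (fun b w => by
      have h1 : (b ⊗ₜ[Γ(S, V)] (1 : Γ(X, U))) * w = b • w := by
        rw [Algebra.smul_def]
        rfl
      rw [h1]
      exact map_smul δ.tensorProductTo b w)
    (fun w hw => tensorProductTo_eq_zero_of_mem_sq Γ(S, V) Γ(X, U) δ w hw)
  refine ⟨l, fun b => ?_⟩
  rw [hl ((1 : Γ(X, U)) ⊗ₜ[Γ(S, V)] b) _ (by rw [secE_dn, thetaHomU_right])]
  change δ.tensorProductTo ((1 : Γ(X, U)) ⊗ₜ[Γ(S, V)] b) = _
  rw [Derivation.tensorProductTo_tmul, one_smul, hδ]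

end LocalHom

end Groth.Agent.Lib.Helper2.PrinPartB
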