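import Mathlib
import Groth.Agent.Lib.Helper2.PrinPart.LocalHom
import Groth.Agent.Lib.Helper12.HomGlue1

/-! # A derivation is a differential operator of order one: it factors through `P^1` -/

set_option autoImplicit false
universe u
open CategoryTheory CategoryTheory.Limits AlgebraicGeometry TopologicalSpace Opposite
open Groth.Agent.Lib.Helper29.QCoh

namespace Groth.Agent.Lib.Helper2.PrinPartB

theorem order_one_formula {R N : Type*} [CommRing R] [AddCommGroup N] [Module R N] (E : R →+ N)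
    (hE : ∀ x y, E (x * y) = x • E y + y • E x - (x * y) • E 1) (c h hinv b' : R)
    (h1 : hinv * h = 1) (h2 : c * h = b') :
    E c = hinv • E b' + (-(hinv * c)) • E h + c • E 1 := by
  have e1 : E b' = h • E c + c • E h - b' • E 1 := by
    have := hE h c
    rwa [mul_comm h c, h2] at this
  have e3 : hinv * b' = c := by rw [← h2, mul_comm c h, ← mul_assoc, h1, one_mul]
  have e2 : hinv • E b' = E c + (hinv * c) • E h - c • E 1 := by
    rw [e1, smul_sub, smul_add, smul_smul, smul_smul, smul_smul, h1, one_smul, e3]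
  rw [e2, neg_smul]
  abel

section Loc

variable {X : Scheme.{u}} {U : X.Opens} (hU : IsAffineOpen U) (g : Γ(X, U))

include hU in
/-- Sections over a basic open as fractions. -/
theorem exists_fraction (c : Γ(X, X.basicOpen g)) :
    ∃ (b' h : Γ(X, U)) (hinv : Γ(X, X.basicOpen g)),
      hinv * (X.presheaf.map (homOfLE (X.basicOpen_le g)).op).hom h = 1 ∧
      c * (X.presheaf.map (homOfLE (X.basicOpen_le g)).op).hom h =
        (X.presheaf.map (homOfLE (X.basicOpen_le g)).op).hom b' := by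
  haveI := hU.isLocalization_basicOpen g
  obtain ⟨⟨b', ⟨_, j, rfl⟩⟩, hs⟩ := IsLocalization.surj (Submonoid.powers g) c
  have hu : IsUnit ((X.presheaf.map (homOfLE (X.basicOpen_le g)).op).hom (g ^ j)) :=
    IsLocalization.map_units (M := Submonoid.powers g) Γ(X, X.basicOpen g) ⟨g ^ j, j, rfl⟩
  obtain ⟨hinv, hhinv⟩ := hu.exists_left_inv
  exact ⟨b', g ^ j, hinv, hhinv, hs⟩

end Loc
section LemmaK

open Groth.Agent.Lib.Helper12.H12HomGlue

variable {X S : Scheme.{u}} (f : X ⟶ S) (G : X.Modules) (d : OmegaSh.Der f G)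

theorem dn_rel' (U : X.Opens) (x y : Γ(X, U)) :
    PrinPart.dn f 1 U (x * y) =
      x • PrinPart.dn f 1 U y + y • PrinPart.dn f 1 U x - (x * y) • PrinPart.dn f 1 U 1 :=
  dn_mul_rel f U x y

theorem der_rel' (U : X.Opens) (x y : Γ(X, U)) :
    d.app U (x * y) = x • d.app U y + y • d.app U x - (x * y) • d.app U 1 := by
  have h1 : d.app U 1 = 0 := PresheafOfModules.Derivation.d_one d (op U)
  rw [der_mul, h1, smul_zero, sub_zero]

/-- **A derivation factors through `P^1`.** -/
theorem exists_hom_of_der :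
    ∃ u : PrinPart.P f 1 ⟶ G, ∀ (U : X.Opens) (b : Γ(X, U)),
      u.app U (PrinPart.dn f 1 U b) = d.app U b := by
  haveI : (Coh.structureModule X).IsQuasicoherent := isQuasicoherent_unitM X
  haveI : (PrinPart.P f 1).IsQuasicoherent := isQuasicoherent_PMod f 1 _
  -- local linear maps
  have hloc : ∀ k : AffinePairs f, ∃ l : Γ(PrinPart.P f 1, (k.1.1 : X.Opens)) →ₗ[Γ(X, (k.1.1 : X.Opens))]
      Γ(G, (k.1.1 : X.Opens)), ∀ b, l (PrinPart.dn f 1 k.1.1 b) = d.app k.1.1 b :=
    fun k => exists_linearMap_of_der f k.1.1.2 k.1.2.2 k.2 G d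
  choose v hv using hloc
  obtain ⟨u, hu⟩ := exists_hom_of_local (F := PrinPart.P f 1) (Q := G)
    (fun k : AffinePairs f => (k.1.1 : X.Opens)) (fun k => k.1.1.2)
    (fun x => by
      obtain ⟨U, V, hU, hV, hxU, hUV⟩ := exists_affine_pair f x
      exact ⟨⟨(⟨U, hU⟩, ⟨V, hV⟩), hUV⟩, hxU⟩)
    (fun k => Set.range (PrinPart.dn f 1 k.1.1))
    (fun k => span_range_dn_eq_top f k.1.1.2 k.1.2.2 k.2 1)
    v
    (by
      rintro k l x hxk hxl _ ⟨b, rfl⟩
      obtain ⟨g₁, g, hgg, hxg⟩ := exists_basicOpen_le_affine_inter k.1.1.2 l.1.1.2 x ⟨hxk, hxl⟩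
      have hWl : X.basicOpen g ≤ (l.1.1 : X.Opens) := X.basicOpen_le g
      have hWk : X.basicOpen g ≤ (k.1.1 : X.Opens) := hgg ▸ X.basicOpen_le g₁
      have hxW : x ∈ X.basicOpen g := hgg ▸ hxg
      obtain ⟨b', h, hinv, h1, h2⟩ := exists_fraction l.1.1.2 g
        ((X.presheaf.map (homOfLE hWk).op).hom b)
      refine ⟨X.basicOpen g, hxW, hWk, hWl, 3,
        ![hinv, -(hinv * (X.presheaf.map (homOfLE hWk).op).hom b),
          (X.presheaf.map (homOfLE hWk).op).hom b],
        ![PrinPart.dn f 1 l.1.1 b', PrinPart.dn f 1 l.1.1 h, PrinPart.dn f 1 l.1.1 1], ?_, ?_⟩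
      · rw [Fin.sum_univ_three]
        simp only [Matrix.cons_val_zero, Matrix.cons_val_one, Matrix.cons_val_two,
          Matrix.head_cons, Matrix.tail_cons]
        change (PrinPart.P f 1).presheaf.map (homOfLE hWk).op _ =
          hinv • (PrinPart.P f 1).presheaf.map (homOfLE hWl).op _ +
          _ • (PrinPart.P f 1).presheaf.map (homOfLE hWl).op _ +
          _ • (PrinPart.P f 1).presheaf.map (homOfLE hWl).op _
        rw [← dn_map, ← dn_map, ← dn_map, ← dn_map, map_one]
        exact order_one_formula (PrinPart.dn f 1 (X.basicOpen g)) (dn_rel' f _) _ _ _ _ h1 h2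
      · rw [Fin.sum_univ_three]
        simp only [Matrix.cons_val_zero, Matrix.cons_val_one, Matrix.cons_val_two,
          Matrix.head_cons, Matrix.tail_cons]
        rw [hv, hv, hv, hv]
        change G.presheaf.map (homOfLE hWk).op _ =
          hinv • G.presheaf.map (homOfLE hWl).op _ +
          _ • G.presheaf.map (homOfLE hWl).op _ +
          _ • G.presheaf.map (homOfLE hWl).op _
        rw [← der_map, ← der_map, ← der_map, ← der_map, map_one]
        exact order_one_formula (d.app (X.basicOpen g)) (der_rel' f G d _) _ _ _ _ h1 h2)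
  refine ⟨u, fun U b => ?_⟩
  apply section_ext G
  intro x hx
  obtain ⟨V, hV, hxV, -⟩ := exists_isAffineOpen_mem_and_subset (x := f x) (U := ⊤) trivial
  obtain ⟨U', hU', hxU', hU'le⟩ := exists_isAffineOpen_mem_and_subset (x := x)
    (U := U ⊓ f ⁻¹ᵁ V) ⟨hx, hxV⟩
  have hU'U : U' ≤ U := hU'le.trans inf_le_left
  have hU'V : U' ≤ f ⁻¹ᵁ V := hU'le.trans inf_le_right
  rw [← germ_res G hU'U x hxU', ← germ_res G hU'U x hxU']
  congr 1
  change G.presheaf.map (homOfLE hU'U).op _ = G.presheaf.map (homOfLE hU'U).op _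
  rw [← app_res', ← dn_map, ← der_map]
  have h3 := hu ⟨(⟨U', hU'⟩, ⟨V, hV⟩), hU'V⟩ (PrinPart.dn f 1 U' (X.presheaf.map (homOfLE hU'U).op b))
  exact h3.trans (hv _ _)

end LemmaK

end Groth.Agent.Lib.Helper2.PrinPartB
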