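import Mathlib
import Groth.Agent.Lib.Helper29.QCohIdealMod
import Groth.Agent.Lib.Helper29.QCohPullback
import Groth.Agent.Lib.Helper29.QCohGen
import Groth.Prelude.Def_OmegaPn

/-! # Coherence of the graded pieces of a finitely presented closed immersion -/

set_option autoImplicit false
universe u
open CategoryTheory CategoryTheory.Limits AlgebraicGeometry TopologicalSpace Opposite
open Groth.Agent.Lib.Helper29.QCoh

namespace Groth.Agent.Lib.Helper2.PrinPartB

/-- The kernel of a closed immersion locally of finite presentation is finitely generated on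
affine opens. -/
theorem ker_ideal_fg {Y X : Scheme.{u}} (f : Y ⟶ X) [IsClosedImmersion f]
    [LocallyOfFinitePresentation f] (U : X.affineOpens) : (f.ker.ideal U).FG := by
  rw [Scheme.Hom.ker_apply]
  have hV : IsAffineOpen (f ⁻¹ᵁ U.1) := U.2.preimage f
  have h1 : (f.appLE U.1 (f ⁻¹ᵁ U.1) le_rfl).hom.FinitePresentation :=
    HasRingHomProperty.appLE (P := @LocallyOfFinitePresentation) f inferInstance U
      ⟨f ⁻¹ᵁ U.1, hV⟩ le_rfl
  rw [Scheme.Hom.appLE_eq_app] at h1
  have h2 : Function.Surjective (f.app U.1).hom := f.app_surjective U.1 U.2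
  letI := (f.app U.1).hom.toAlgebra
  haveI : Algebra.FinitePresentation Γ(X, U.1) Γ(Y, f ⁻¹ᵁ U.1) := h1
  exact Algebra.FinitePresentation.ker_fG_of_surjective (Algebra.ofId Γ(X, U.1) Γ(Y, f ⁻¹ᵁ U.1)) h2

theorem isFiniteType_idealMod {X : Scheme.{u}} (I : X.IdealSheafData)
    (hI : ∀ U : X.affineOpens, (I.ideal U).FG) : (ClSub.idealMod I).IsFiniteType := by
  refine isFiniteType_of_module_finite _ (fun U : X.affineOpens => U.1)
    (isOpenCover_affineOpens X) (fun U => U.2) (fun U => ?_)
  haveI : Module.Finite Γ(X, U.1) (I.ideal U) := Module.Finite.iff_fg.mpr (hI U)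
  exact Module.Finite.equiv (idealModSectionsEquiv I U).symm

theorem isCoh_grMod {Y X : Scheme.{u}} (f : Y ⟶ X) [IsClosedImmersion f]
    [LocallyOfFinitePresentation f] (n : ℕ) : Coh.IsCoh (PrinPart.grMod f n) := by
  haveI : (ClSub.idealMod (f.ker ^ n)).IsFiniteType :=
    isFiniteType_idealMod _ (fun U => by
      rw [Scheme.IdealSheafData.ideal_pow]
      exact Ideal.FG.pow (ker_ideal_fg f U))
  exact ⟨inferInstanceAs ((Scheme.Modules.pullback f).obj _).IsQuasicoherent,
    inferInstanceAs ((Scheme.Modules.pullback f).obj _).IsFiniteType⟩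

end Groth.Agent.Lib.Helper2.PrinPartB
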