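import Mathlib
import Groth.Agent.Lib.Helper2.PrinPart.Finite
import Groth.Agent.Lib.Helper2.PrinPart.GrCoh
import Groth.Agent.Lib.Helper29.QCohFP2
import Groth.Agent.S4599

/-! # Finite presentation of the sheaves of principal parts -/

set_option autoImplicit false
universe u
open CategoryTheory CategoryTheory.Limits AlgebraicGeometry TopologicalSpace Opposite
open Groth.Agent.Lib.Helper29.QCoh

namespace Groth.Agent.Lib.Helper2.PrinPartB

/-- The closed subscheme cut out by a locally finitely generated ideal sheaf is locally of finite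
presentation over the ambient scheme (same proof as helper12's `H12IdealDesc` lemma). -/
theorem lfp_subschemeι {X : Scheme.{u}} (J : X.IdealSheafData)
    (hJ : ∀ U : X.affineOpens, (J.ideal U).FG) : LocallyOfFinitePresentation J.subschemeι := by
  rw [HasRingHomProperty.iff_exists_appLE (P := @LocallyOfFinitePresentation)
    (RingHom.finitePresentation_stableUnderComposition.stableUnderCompositionWithLocalizationAway
      RingHom.finitePresentation_holdsForLocalizationAway).1]
  intro z
  obtain ⟨U, hU, hzU, -⟩ := exists_isAffineOpen_mem_and_subset (x := J.subschemeι z)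
    (U := (⊤ : X.Opens)) trivial
  refine ⟨⟨U, hU⟩, ⟨J.subschemeι ⁻¹ᵁ U, hU.preimage _⟩, hzU, le_rfl, ?_⟩
  rw [← Scheme.Hom.app_eq_appLE]
  refine RingHom.FinitePresentation.of_surjective _ (J.subschemeι_app_surjective ⟨U, hU⟩) ?_
  rw [J.ker_subschemeι_app]
  exact hJ ⟨U, hU⟩

section Diag

variable {X S : Scheme.{u}} (f : X ⟶ S) (n : ℕ)

instance [LocallyOfFiniteType f] : LocallyOfFinitePresentation (PrinPart.diagCl f) := by
  have h1 : PrinPart.diagCl f ≫ ((pullback.diagonal f).coborderRange.ι ≫ pullback.fst f f) =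
      𝟙 X := by
    rw [← Category.assoc, Scheme.Hom.liftCoborder_ι, pullback.diagonal_fst]
  have h2 : LocallyOfFinitePresentation
      (PrinPart.diagCl f ≫ ((pullback.diagonal f).coborderRange.ι ≫ pullback.fst f f)) := by
    rw [h1]; infer_instance
  exact Groth.Agent.S4599.lfp_of_comp h2 inferInstance

instance [LocallyOfFiniteType f] :
    LocallyOfFinitePresentation (PrinPart.infNbhdι (PrinPart.diagCl f) n) :=
  lfp_subschemeι _ (fun U => by
    rw [Scheme.IdealSheafData.ideal_pow]
    exact Ideal.FG.pow (ker_ideal_fg (PrinPart.diagCl f) U))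

instance [LocallyOfFinitePresentation f] : LocallyOfFinitePresentation (PrinPart.pr1 f n) := by
  unfold PrinPart.pr1 PrinPart.nbhdι
  infer_instance

theorem module_fp_pushforward {X Y : Scheme.{u}} (g : X ⟶ Y) (M : X.Modules) (V : Y.Opens)
    (hfin : (g.app V).hom.Finite) (hfp : (g.app V).hom.FinitePresentation)
    (hM : Module.FinitePresentation Γ(X, g ⁻¹ᵁ V) Γ(M, g ⁻¹ᵁ V)) :
    Module.FinitePresentation Γ(Y, V) Γ((Scheme.Modules.pushforward g).obj M, V) := by
  let alg : Algebra Γ(Y, V) Γ(X, g ⁻¹ᵁ V) := (g.app V).hom.toAlgebra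
  have hf' : Module.Finite Γ(Y, V) Γ(X, g ⁻¹ᵁ V) := hfin
  have hf'' : Algebra.FinitePresentation Γ(Y, V) Γ(X, g ⁻¹ᵁ V) := hfp
  have h1 : Module.FinitePresentation Γ(Y, V) Γ(X, g ⁻¹ᵁ V) :=
    Module.FinitePresentation.of_finite_of_finitePresentation _ _
  let inst : Module Γ(Y, V) Γ(M, g ⁻¹ᵁ V) :=
    Module.compHom Γ(M, g ⁻¹ᵁ V) (algebraMap Γ(Y, V) Γ(X, g ⁻¹ᵁ V))
  have : IsScalarTower Γ(Y, V) Γ(X, g ⁻¹ᵁ V) Γ(M, g ⁻¹ᵁ V) :=
    IsScalarTower.of_compHom Γ(Y, V) Γ(X, g ⁻¹ᵁ V) Γ(M, g ⁻¹ᵁ V)
  have h3 : Module.FinitePresentation Γ(Y, V) Γ(M, g ⁻¹ᵁ V) :=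
    Module.FinitePresentation.trans Γ(Y, V) Γ(M, g ⁻¹ᵁ V) Γ(X, g ⁻¹ᵁ V)
  let e : Γ(M, g ⁻¹ᵁ V) ≃ₗ[Γ(Y, V)] Γ((Scheme.Modules.pushforward g).obj M, V) :=
    { toFun := fun m => m
      invFun := fun m => m
      map_add' := fun _ _ => rfl
      map_smul' := fun _ _ => rfl
      left_inv := fun _ => rfl
      right_inv := fun _ => rfl }
  exact Module.FinitePresentation.of_equiv e

theorem fp_pr1_app [LocallyOfFinitePresentation f] (T) :
    ((PrinPart.pr1 f n).app (diagOpen f T)).hom.FinitePresentation := by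
  have h1 := HasRingHomProperty.appLE (P := @LocallyOfFinitePresentation) (PrinPart.pr1 f n)
    inferInstance
    ⟨diagOpen f T, isAffineOpen_diagOpen f T⟩ ⟨_, isAffineOpen_pr1_preimage f n T⟩ le_rfl
  rwa [Scheme.Hom.appLE_eq_app] at h1

theorem isFinitePresentation_PMod [LocallyOfFinitePresentation f] (F : X.Modules)
    [F.IsFinitePresentation] : (PrinPart.PMod f n F).IsFinitePresentation := by
  haveI : F.IsQuasicoherent := inferInstance
  haveI : (PrinPart.PMod f n F).IsQuasicoherent := isQuasicoherent_PMod f n F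
  refine isFinitePresentation_of_module_finitePresentation _ (diagOpen f)
    (isOpenCover_diagOpen f) (isAffineOpen_diagOpen f) (fun T => ?_)
  haveI : ((Scheme.Modules.pullback (PrinPart.pr2 f n)).obj F).IsFinitePresentation :=
    inferInstance
  exact module_fp_pushforward (PrinPart.pr1 f n) _ _ (finite_pr1_app f n T) (fp_pr1_app f n T)
    (module_finitePresentation_of_isFinitePresentation _ (isAffineOpen_pr1_preimage f n T))

end Diag

end Groth.Agent.Lib.Helper2.PrinPartB
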